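import Groth.Prelude.Def_CycDet
import Mathlib.RingTheory.FiniteLength
import Mathlib.RingTheory.Finiteness.Basic
import Mathlib.Order.Atoms

/-! Basic facts on admissible tuples. -/

set_option autoImplicit false
set_option linter.unusedSectionVars false
set_option linter.style.haveILetI false

universe u v

namespace Groth.Agent.CycDet50

open IsLocalRing CycDet

variable {R : Type u} [CommRing R] [IsLocalRing R] {M : Type v} [AddCommGroup M] [Module R M] {l : ℕ}

/-- The tuple generates. -/
def Gen (e : Fin l → M) : Prop := Submodule.span R (Set.range e) = ⊤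

theorem before_mono (e : Fin l → M) {i j : ℕ} (h : i ≤ j) : spanBefore R M e i ≤ spanBefore R M e j :=
  Submodule.span_mono (Set.image_mono fun _ hk => lt_of_lt_of_le hk h)

theorem before_zero (e : Fin l → M) : spanBefore R M e 0 = ⊥ := by
  rw [spanBefore, show {j : Fin l | (j : ℕ) < 0} = ∅ by ext; simp, Set.image_empty, Submodule.span_empty]

theorem before_succ (e : Fin l → M) (a : Fin l) :
    spanBefore R M e (a + 1) = spanBefore R M e a ⊔ Submodule.span R {e a} := by
  rw [spanBefore, spanBefore, ← Submodule.span_union, ← Set.image_singleton (f := e), ← Set.image_union]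
  congr 2
  ext j
  simp only [Set.mem_setOf_eq, Set.mem_union, Set.mem_singleton_iff, Fin.ext_iff]
  omega

theorem before_top (e : Fin l → M) : spanBefore R M e l = Submodule.span R (Set.range e) := by
  rw [spanBefore, show {j : Fin l | (j : ℕ) < l} = Set.univ by ext j; simp, Set.image_univ]

theorem mem_before (e : Fin l → M) {a : Fin l} {i : ℕ} (h : (a : ℕ) < i) : e a ∈ spanBefore R M e i :=
  Submodule.subset_span ⟨a, h, rfl⟩

theorem before_congr {e e' : Fin l → M} {i : ℕ} (h : ∀ j : Fin l, (j : ℕ) < i → e j = e' j) :
    spanBefore R M e i = spanBefore R M e' i := by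
  rw [spanBefore, spanBefore]
  congr 1
  exact Set.image_congr h

/-- Changing an entry by a unit multiple modulo earlier entries does not change the spans. -/
theorem before_eq_of_change {e e' : Fin l → M} {a : Fin l} {c : Rˣ} (hne : ∀ j, j ≠ a → e j = e' j)
    (ha : e a - (c : R) • e' a ∈ spanBefore R M e a) (i : ℕ) :
    spanBefore R M e i = spanBefore R M e' i := by
  have hlow : ∀ i ≤ (a : ℕ), spanBefore R M e i = spanBefore R M e' i := fun i hi =>
    before_congr fun j hj => hne j fun h => by subst h; omega
  by_cases hi : i ≤ (a : ℕ)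
  · exact hlow i hi
  push Not at hi
  refine le_antisymm (Submodule.span_le.2 ?_) (Submodule.span_le.2 ?_)
  · rintro _ ⟨j, hj, rfl⟩
    by_cases h : j = a
    · subst h
      have h1 : spanBefore R M e j ≤ spanBefore R M e' i :=
        (hlow _ le_rfl).le.trans (before_mono e' (le_of_lt hj))
      have := add_mem (h1 ha) (Submodule.smul_mem _ (c : R) (mem_before e' hj))
      simpa using this
    · rw [hne j h]; exact mem_before e' hj
  · rintro _ ⟨j, hj, rfl⟩
    by_cases h : j = a
    · subst h
      have h1 : spanBefore R M e j ≤ spanBefore R M e i := before_mono e (le_of_lt hj)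
      have := Submodule.smul_mem _ (↑c⁻¹ : R) (sub_mem (mem_before (R := R) e hj) (h1 ha))
      simpa [smul_smul] using this
    · rw [← hne j h]; exact mem_before e hj

/-- Swapping adjacent entries preserves the spans away from the middle. -/
theorem before_swap {e : Fin l → M} {a b : Fin l} (hab : (b : ℕ) + 1 = a) (i : ℕ) (hi : i ≠ a) :
    spanBefore R M (e ∘ Equiv.swap a b) i = spanBefore R M e i := by
  rw [spanBefore, spanBefore, Set.image_comp]
  congr 2
  ext j
  simp only [Set.mem_image, Set.mem_setOf_eq]
  constructor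
  · rintro ⟨k, hk, rfl⟩
    rcases eq_or_ne k a with h | h
    · subst h; rw [Equiv.swap_apply_left]; omega
    rcases eq_or_ne k b with h' | h'
    · subst h'; rw [Equiv.swap_apply_right]; omega
    rwa [Equiv.swap_apply_of_ne_of_ne h h']
  · intro hj
    refine ⟨Equiv.swap a b j, ?_, Equiv.swap_apply_self _ _ _⟩
    rcases eq_or_ne j a with h | h
    · subst h; rw [Equiv.swap_apply_left]; omega
    rcases eq_or_ne j b with h' | h'
    · subst h'; rw [Equiv.swap_apply_right]; omega
    rwa [Equiv.swap_apply_of_ne_of_ne h h']

theorem isAdmissible_swap {e : Fin l → M} (he : IsAdmissible R M e) {a b : Fin l} (hab : (b : ℕ) + 1 = a)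
    (hm : ∀ r ∈ maximalIdeal R, r • e a ∈ spanBefore R M e b) : IsAdmissible R M (e ∘ Equiv.swap a b) := by
  intro j r hr
  rcases eq_or_ne j b with h | h
  · subst h
    rw [Function.comp_apply, Equiv.swap_apply_right, before_swap hab _ (by omega)]
    exact hm r hr
  rcases eq_or_ne j a with h' | h'
  · subst h'
    rw [Function.comp_apply, Equiv.swap_apply_left]
    refine before_mono _ (show (b : ℕ) ≤ j by omega) ?_
    rw [before_swap hab _ (by omega)]
    exact he b r hr
  rw [Function.comp_apply, Equiv.swap_apply_of_ne_of_ne h' h, before_swap hab _ (Fin.val_ne_iff.2 h')]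
  exact he j r hr

theorem isAdmissible_change {e e' : Fin l → M} (he : IsAdmissible R M e) {a : Fin l} {c : Rˣ}
    (hne : ∀ j, j ≠ a → e j = e' j) (ha : e a - (c : R) • e' a ∈ spanBefore R M e a) :
    IsAdmissible R M e' := by
  intro j r hr
  rw [← before_eq_of_change hne ha]
  by_cases h : j = a
  · subst h
    have h1 : r • e' j = (↑c⁻¹ : R) • (r • e j) - (↑c⁻¹ : R) • (r • (e j - (c : R) • e' j)) := by
      simp [smul_sub, smul_smul, mul_comm, mul_left_comm]
    rw [h1]
    exact sub_mem (Submodule.smul_mem _ _ (he j r hr)) (Submodule.smul_mem _ _ (Submodule.smul_mem _ _ ha))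
  · rw [← hne j h]; exact he j r hr

section Length

variable [IsNoetherian R M] [IsArtinian R M]

theorem length_toNat (p : Submodule R M) : ((Module.length R p).toNat : ℕ∞) = Module.length R p :=
  ENat.natCast_toNat Module.length_ne_top

theorem length_succ_le {e : Fin l → M} (he : IsAdmissible R M e) (a : Fin l) :
    Module.length R (spanBefore R M e (a + 1) : Submodule R M) ≤
      Module.length R (spanBefore R M e a : Submodule R M) + 1 := by
  let P := spanBefore R M e a
  let Q := spanBefore R M e (a + 1)
  have hPQ : P ≤ Q := before_mono e (Nat.le_succ _)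
  rw [Module.length_eq_add_of_exact (Submodule.inclusion hPQ) (P.submoduleOf Q).mkQ (Submodule.inclusion_injective _)
    (Submodule.mkQ_surjective _) (LinearMap.exact_iff.2 (by
      rw [Submodule.ker_mkQ, Submodule.range_inclusion]; rfl))]
  refine add_le_add le_rfl ?_
  let φ : R →ₗ[R] Q ⧸ P.submoduleOf Q :=
    LinearMap.toSpanSingleton R _ (Submodule.Quotient.mk ⟨e a, mem_before e (Nat.lt_succ_self _)⟩)
  have hφ : maximalIdeal R ≤ LinearMap.ker φ := fun r hr => by
    rw [LinearMap.mem_ker, LinearMap.toSpanSingleton_apply, ← Submodule.Quotient.mk_smul, Submodule.Quotient.mk_eq_zero]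
    exact he a r hr
  have hs : Function.Surjective (Submodule.liftQ (maximalIdeal R) φ hφ) := by
    intro y
    obtain ⟨⟨y, hy⟩, rfl⟩ := Submodule.Quotient.mk_surjective _ y
    have hy' : y ∈ spanBefore R M e (a + 1) := hy
    rw [before_succ, Submodule.mem_sup] at hy'
    obtain ⟨p, hp, _, hq, rfl⟩ := hy'
    obtain ⟨r, rfl⟩ := Submodule.mem_span_singleton.1 hq
    refine ⟨Submodule.Quotient.mk r, ?_⟩
    rw [Submodule.liftQ_apply, LinearMap.toSpanSingleton_apply, ← Submodule.Quotient.mk_smul, Submodule.Quotient.eq]
    show r • e a - (p + r • e a) ∈ P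
    simpa using P.neg_mem hp
  haveI : IsSimpleModule R (R ⧸ maximalIdeal R) := isSimpleModule_iff_isCoatom.2 (maximalIdeal.isMaximal R).1
  exact (Module.length_le_of_surjective _ hs).trans (le_of_eq (Module.length_eq_one R (R ⧸ maximalIdeal R)))

theorem length_before_le {e : Fin l → M} (he : IsAdmissible R M e) (a : Fin l)
    (ha : e a ∈ spanBefore R M e a) : ∀ k ≤ l,
    Module.length R (spanBefore R M e k : Submodule R M) + (if (a : ℕ) < k then 1 else 0) ≤ k := by
  intro k
  induction k with
  | zero => intro _; rw [before_zero, Module.length_bot]; simp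
  | succ k ih =>
    intro hk
    have := ih (by omega)
    by_cases hka : k = (a : ℕ)
    · subst hka
      rw [before_succ, sup_eq_left.2 ((Submodule.span_singleton_le_iff_mem _ _).2 ha), if_pos (Nat.lt_succ_self _)]
      rw [if_neg (lt_irrefl _), add_zero] at this
      push_cast
      exact add_le_add this le_rfl
    · refine (add_le_add (length_succ_le he ⟨k, by omega⟩) le_rfl).trans ?_
      have hif : (if (a : ℕ) < k + 1 then (1 : ℕ∞) else 0) = if (a : ℕ) < k then 1 else 0 := by
        by_cases h : (a : ℕ) < k
        · rw [if_pos h, if_pos (by omega)]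
        · rw [if_neg h, if_neg (by omega)]
      rw [hif, add_right_comm]
      push_cast
      exact add_le_add this le_rfl

/-- A generating admissible tuple is strict. -/
theorem not_mem_before {e : Fin l → M} (hl : Module.length R M = l) (he : IsAdmissible R M e) (hg : Gen (R := R) e)
    (a : Fin l) : e a ∉ spanBefore R M e a := fun ha => by
  have := length_before_le he a ha l le_rfl
  rw [before_top, hg, Module.length_top, hl, if_pos a.2] at this
  have h : ((l + 1 : ℕ) : ℕ∞) ≤ (l : ℕ) := by push_cast; exact this
  rw [Nat.cast_le] at h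
  omega

/-- A strict tuple generates. -/
theorem gen_of_strict {e : Fin l → M} (hl : Module.length R M = l) (h : ∀ a : Fin l, e a ∉ spanBefore R M e a) :
    Gen (R := R) e := by
  have hk : ∀ k ≤ l, (k : ℕ∞) ≤ Module.length R (spanBefore R M e k : Submodule R M) := by
    intro k
    induction k with
    | zero => intro _; exact bot_le
    | succ k ih =>
      intro hk
      have hlt : spanBefore R M e k < spanBefore R M e (k + 1) :=
        lt_of_le_of_ne (before_mono e (Nat.le_succ k)) fun heq =>
          h ⟨k, hk⟩ (heq ▸ mem_before e (a := ⟨k, hk⟩) (Nat.lt_succ_self k))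
      have hne : (spanBefore R M e k).submoduleOf (spanBefore R M e (k + 1)) ≠ ⊤ := fun ht =>
        hlt.not_ge (Submodule.submoduleOf_eq_top.1 ht)
      have h1 := Submodule.length_lt hne
      rw [(Submodule.submoduleOfEquivOfLe hlt.le).length_eq] at h1
      push_cast
      exact (add_le_add (ih (by omega)) le_rfl).trans (Order.add_one_le_of_lt h1)
  by_contra hne
  have h1 := Submodule.length_lt (N := spanBefore R M e l) (by rw [before_top]; exact hne)
  rw [hl] at h1
  exact absurd (hk l le_rfl) (not_le.2 h1)

/-- A nontrivial module has a socle element. -/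
theorem exists_socle [Nontrivial M] : ∃ x : M, x ≠ 0 ∧ ∀ r ∈ maximalIdeal R, r • x = 0 := by
  obtain h | ⟨S, hS, -⟩ := eq_bot_or_exists_atom_le (⊤ : Submodule R M)
  · exact absurd h top_ne_bot
  obtain ⟨x, hxS, hx⟩ := Submodule.exists_mem_ne_zero_of_ne_bot hS.1
  refine ⟨x, hx, fun r hr => by_contra fun hne => hx ?_⟩
  have hspan : Submodule.span R {r • x} = S := (hS.le_iff.1
    ((Submodule.span_singleton_le_iff_mem _ _).2 (S.smul_mem r hxS))).resolve_left
      fun h => hne (Submodule.span_singleton_eq_bot.1 h)
  obtain ⟨c, hc⟩ := Submodule.mem_span_singleton.1 (hspan.symm ▸ hxS)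
  have hu : IsUnit (1 - c * r) := notMem_maximalIdeal.1 fun h => by
    have : (1 : R) ∈ maximalIdeal R := by simpa using add_mem h (Ideal.mul_mem_left _ c hr)
    exact (Ideal.ne_top_iff_one _).1 (maximalIdeal.isMaximal R).ne_top this
  obtain ⟨v, hv⟩ := hu
  have h0 : (v : R) • x = 0 := by rw [hv, sub_smul, one_smul, mul_smul, hc, sub_self]
  simpa [smul_smul] using congrArg ((↑v⁻¹ : R) • ·) h0

end Length

end Groth.Agent.CycDet50
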