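import Groth.Agent.CycDet50.Psi
import Mathlib.LinearAlgebra.ExteriorPower.Basis
import Mathlib.LinearAlgebra.TensorProduct.Basic
import Mathlib.LinearAlgebra.TensorProduct.Finiteness
import Mathlib.LinearAlgebra.Determinant
import Mathlib.LinearAlgebra.Dimension.OrzechProperty
import Mathlib.LinearAlgebra.FiniteDimensional.Basic

/-! The determinant of a finite length module is a line. -/

set_option autoImplicit false
set_option linter.unusedSectionVars false
set_option linter.style.haveILetI false

universe u v w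

namespace Groth.Agent.CycDet50

open IsLocalRing CycDet
open scoped TensorProduct

variable {R : Type u} [CommRing R] [IsLocalRing R] {M : Type v} [AddCommGroup M] [Module R M] {l : ℕ}

/-- The symbol. -/
noncomputable def sy (e : Adm R M l) : DetOfLen R M l := Submodule.Quotient.mk (sym R M e)

theorem sy_zero (e : Adm R M l) (a : Fin l) (h : e.1 a ∈ spanBefore R M e.1 a) : sy e = 0 :=
  (Submodule.Quotient.mk_eq_zero _).2 (Submodule.subset_span (Or.inl (Or.inl ⟨e, a, h, rfl⟩)))

theorem sy_change (e e' : Adm R M l) (a : Fin l) (c : Rˣ) (hne : ∀ j, j ≠ a → e.1 j = e'.1 j)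
    (ha : e.1 a - (c : R) • e'.1 a ∈ spanBefore R M e.1 a) : sy e = residue R (c : R) • sy e' := by
  rw [sy, sy, ← Submodule.Quotient.mk_smul, Submodule.Quotient.eq]
  exact Submodule.subset_span (Or.inl (Or.inr ⟨e, e', a, c, hne, ha, rfl⟩))

theorem sy_swap (e e' : Adm R M l) (a b : Fin l) (hab : (b : ℕ) + 1 = a)
    (hm : ∀ r ∈ maximalIdeal R, r • e.1 a ∈ spanBefore R M e.1 b) (he' : e'.1 = e.1 ∘ Equiv.swap a b) :
    sy e = -sy e' := by
  rw [eq_neg_iff_add_eq_zero, sy, sy, ← Submodule.Quotient.mk_add, Submodule.Quotient.mk_eq_zero]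
  exact Submodule.subset_span (Or.inr ⟨e, e', a, b, hab, hm, he', rfl⟩)

/-- Linear maps on symbols respecting the relations descend. -/
theorem exists_lift {V : Type w} [AddCommGroup V] [Module (ResidueField R) V] (φ : Adm R M l → V)
    (h0 : ∀ (e : Adm R M l) (a : Fin l), e.1 a ∈ spanBefore R M e.1 a → φ e = 0)
    (hc : ∀ (e e' : Adm R M l) (a : Fin l) (c : Rˣ), (∀ j, j ≠ a → e.1 j = e'.1 j) →
      e.1 a - (c : R) • e'.1 a ∈ spanBefore R M e.1 a → φ e = residue R (c : R) • φ e')
    (hs : ∀ (e e' : Adm R M l) (a b : Fin l), (b : ℕ) + 1 = a →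
      (∀ r ∈ maximalIdeal R, r • e.1 a ∈ spanBefore R M e.1 b) → e'.1 = e.1 ∘ Equiv.swap a b → φ e = -φ e') :
    ∃ Φ : DetOfLen R M l →ₗ[ResidueField R] V, ∀ e, Φ (sy e) = φ e := by
  let T : Free R M l →ₗ[ResidueField R] V := Finsupp.linearCombination (ResidueField R) φ
  have hT : ∀ e, T (sym R M e) = φ e := fun e => by simp [T, sym]
  refine ⟨Submodule.liftQ _ T (Submodule.span_le.2 ?_), fun e => hT e⟩
  rintro x ((⟨e, a, h, rfl⟩ | ⟨e, e', a, c, hne, ha, rfl⟩) | ⟨e, e', a, b, hab, hm, he', rfl⟩)
  · rw [SetLike.mem_coe, LinearMap.mem_ker, hT, h0 e a h]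
  · rw [SetLike.mem_coe, LinearMap.mem_ker, map_sub, map_smul, hT, hT, hc e e' a c hne ha, sub_self]
  · rw [SetLike.mem_coe, LinearMap.mem_ker, map_add, hT, hT, hs e e' a b hab hm he', neg_add_cancel]

section FiniteLength

variable [IsNoetherian R M] [IsArtinian R M] (hl : Module.length R M = l)
include hl

theorem sy_nongen (e : Adm R M l) (h : ¬ Gen (R := R) e.1) : sy e = 0 := by
  by_contra hne
  exact h (gen_of_strict hl fun a ha => hne (sy_zero e a ha))

theorem sy_ne_zero (e : Adm R M l) (h : Gen (R := R) e.1) : sy e ≠ 0 := by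
  obtain ⟨ψ, hψ⟩ := exists_detFun (R := R) l M hl
  obtain ⟨Φ, hΦ⟩ := exists_lift (R := R) (M := M) (fun e : Adm R M l => ψ e.1)
    (fun e a ha => hψ.nongen _ e.2 fun hg => not_mem_before hl e.2 hg a ha)
    (fun e e' a c hne ha => hψ.change _ _ a c e.2 hne ha)
    (fun e e' a b hab hm he' => by rw [he', hψ.swap _ a b e.2 hab hm, neg_neg])
  intro h0
  exact hψ.gen _ e.2 h ((hΦ e).symm.trans (by rw [h0, map_zero]))

theorem exists_bring {k : ℕ} {x : M} (S : Submodule R M) (hx : ∀ r ∈ maximalIdeal R, r • x ∈ S) :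
    ∀ (d : ℕ) (g : Adm R M l) (i : Fin l), (i : ℕ) = k + d → g.1 i = x → spanBefore R M g.1 k = S →
      ∃ (g' : Adm R M l) (c : ResidueField R), sy g = c • sy g' ∧ (Gen (R := R) g.1 → Gen (R := R) g'.1) ∧
        (∀ j : Fin l, (j : ℕ) < k → g'.1 j = g.1 j) ∧ ∀ j : Fin l, (j : ℕ) = k → g'.1 j = x := by
  intro d
  induction d with
  | zero =>
    intro g i hi hgi _
    exact ⟨g, 1, (one_smul _ _).symm, id, fun _ _ => rfl, fun j hj => by rw [show j = i from Fin.ext (by omega), hgi]⟩
  | succ d ih =>
    intro g i hi hgi hS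
    let b : Fin l := ⟨k + d, by omega⟩
    have hab : (b : ℕ) + 1 = i := by show k + d + 1 = (i : ℕ); omega
    have hm : ∀ r ∈ maximalIdeal R, r • g.1 i ∈ spanBefore R M g.1 b := fun r hr =>
      before_mono g.1 (Nat.le_add_right k d) (by rw [hgi, hS]; exact hx r hr)
    let g1 : Adm R M l := ⟨g.1 ∘ Equiv.swap i b, isAdmissible_swap g.2 hab hm⟩
    have hS1 : spanBefore R M g1.1 k = S := by
      show spanBefore R M (g.1 ∘ Equiv.swap i b) k = S
      rw [before_swap hab k (by omega), hS]
    obtain ⟨g', c, hc, hgen, hlow, hk⟩ := ih g1 b rfl (by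
      show g.1 (Equiv.swap i b b) = x
      rw [Equiv.swap_apply_right, hgi]) hS1
    refine ⟨g', -c, ?_, fun hg => hgen ?_, fun j hj => ?_, hk⟩
    · rw [sy_swap g g1 i b hab hm rfl, hc, neg_smul]
    · show Gen (R := R) (g.1 ∘ Equiv.swap i b)
      rw [Gen, (Equiv.swap i b).surjective.range_comp]
      exact hg
    · rw [hlow j hj]
      show g.1 (Equiv.swap i b j) = g.1 j
      rw [Equiv.swap_apply_of_ne_of_ne (Fin.ne_of_val_ne (by omega))
        (Fin.ne_of_val_ne (by show (j : ℕ) ≠ k + d; omega))]

theorem exists_mul (e f : Adm R M l) (hf : Gen (R := R) f.1) : ∃ c : ResidueField R, sy e = c • sy f := by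
  classical
  by_cases hg : Gen (R := R) e.1
  swap
  · exact ⟨0, by rw [sy_nongen hl e hg, zero_smul]⟩
  suffices h : ∀ k ≤ l, ∃ (g : Adm R M l) (c : ResidueField R), Gen (R := R) g.1 ∧
      (∀ j : Fin l, (j : ℕ) < k → g.1 j = f.1 j) ∧ sy e = c • sy g by
    obtain ⟨g, c, -, hgf, hc⟩ := h l le_rfl
    obtain rfl : g = f := Subtype.ext (funext fun j => hgf j j.2)
    exact ⟨c, hc⟩
  intro k
  induction k with
  | zero => intro _; exact ⟨e, 1, hg, fun j hj => absurd hj (Nat.not_lt_zero _), (one_smul _ _).symm⟩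
  | succ k ih =>
    intro hk
    obtain ⟨g, c, hgg, hgf, hc⟩ := ih (by omega)
    let k' : Fin l := ⟨k, hk⟩
    have hbk : spanBefore R M g.1 k = spanBefore R M f.1 k := before_congr fun j hj => hgf j hj
    have hxs : f.1 k' ∉ spanBefore R M g.1 k := hbk ▸ not_mem_before hl f.2 hf k'
    have hxm : ∀ r ∈ maximalIdeal R, r • f.1 k' ∈ spanBefore R M g.1 k := fun r hr => hbk ▸ f.2 k' r hr
    -- the first position where `f k` occurs
    have hex : ∃ n, f.1 k' ∈ spanBefore R M g.1 n := ⟨l, by rw [before_top, hgg]; trivial⟩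
    have hkn : k < Nat.find hex := by
      by_contra hle
      push Not at hle
      exact hxs (before_mono g.1 hle (Nat.find_spec hex))
    have hnl : Nat.find hex ≤ l := Nat.find_min' hex (by rw [before_top, hgg]; trivial)
    let i : Fin l := ⟨Nat.find hex - 1, by omega⟩
    have hi : f.1 k' ∉ spanBefore R M g.1 i := Nat.find_min hex (by show Nat.find hex - 1 < _; omega)
    have hi' : f.1 k' ∈ spanBefore R M g.1 (i + 1) := by
      rw [show (i : ℕ) + 1 = Nat.find hex by show Nat.find hex - 1 + 1 = _; omega]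
      exact Nat.find_spec hex
    rw [before_succ, Submodule.mem_sup] at hi'
    obtain ⟨p, hp, _, hq, heq⟩ := hi'
    obtain ⟨α, rfl⟩ := Submodule.mem_span_singleton.1 hq
    obtain ⟨v, rfl⟩ : IsUnit α := notMem_maximalIdeal.1 fun hα => hi (heq ▸ add_mem hp (g.2 i α hα))
    let g1v := Function.update g.1 i (f.1 k')
    have hne : ∀ j, j ≠ i → g.1 j = g1v j := fun j hj => (Function.update_of_ne hj _ _).symm
    have hch : g.1 i - ((v⁻¹ : Rˣ) : R) • g1v i ∈ spanBefore R M g.1 i := by
      simp only [g1v, Function.update_self]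
      rw [← heq, smul_add, smul_smul, Units.inv_mul, one_smul, sub_add_cancel_right]
      exact Submodule.neg_mem _ (Submodule.smul_mem _ _ hp)
    let g1 : Adm R M l := ⟨g1v, isAdmissible_change g.2 hne hch⟩
    have hb := before_eq_of_change hne hch
    have hik : k ≤ (i : ℕ) := by show k ≤ Nat.find hex - 1; omega
    obtain ⟨g', c', hc', hgen, hlow, hk'⟩ := exists_bring hl (k := k) (spanBefore R M g.1 k) hxm
      ((i : ℕ) - k) g1 i (by omega) (Function.update_self _ _ _) (hb k).symm
    refine ⟨g', c * (residue R ((v⁻¹ : Rˣ) : R) * c'), hgen ?_, fun j hj => ?_, ?_⟩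
    · show Gen (R := R) g1v
      rw [Gen, ← before_top, ← hb, before_top]
      exact hgg
    · rcases Nat.lt_succ_iff_lt_or_eq.1 hj with hj | hj
      · rw [hlow j hj]
        show g1v j = f.1 j
        rw [← hne j (Fin.ne_of_val_ne (by omega)), hgf j hj]
      · rw [hk' j hj, show j = k' from Fin.ext hj]
    · rw [hc, sy_change g g1 i v⁻¹ hne hch, hc', smul_smul, smul_smul, mul_assoc]

theorem exists_gen' : ∃ f : Adm R M l, Gen (R := R) f.1 := by
  obtain ⟨e, he, hg⟩ := exists_gen (R := R) l M hl
  exact ⟨⟨e, he⟩, hg⟩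

theorem exists_smul_eq (f : Adm R M l) (hf : Gen (R := R) f.1) (x : DetOfLen R M l) :
    ∃ c : ResidueField R, c • sy f = x := by
  obtain ⟨y, rfl⟩ := Submodule.Quotient.mk_surjective _ x
  induction y using Finsupp.induction_linear with
  | zero => exact ⟨0, zero_smul _ _⟩
  | add y z hy hz =>
    obtain ⟨c, hc⟩ := hy
    obtain ⟨d, hd⟩ := hz
    exact ⟨c + d, by rw [add_smul, hc, hd, Submodule.Quotient.mk_add]⟩
  | single e a =>
    obtain ⟨c, hc⟩ := exists_mul hl e f hf
    refine ⟨a * c, ?_⟩
    rw [mul_smul, ← hc, sy, ← Submodule.Quotient.mk_smul, sym, Finsupp.smul_single, smul_eq_mul, mul_one]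

theorem rank_le_one : Module.rank (ResidueField R) (DetOfLen R M l) ≤ 1 := by
  obtain ⟨f, hf⟩ := exists_gen' hl
  exact rank_le_one_iff.2 ⟨sy f, exists_smul_eq hl f hf⟩

end FiniteLength

section Exterior

variable [Module (ResidueField R) M] [IsScalarTower R (ResidueField R) M] [Module.Finite (ResidueField R) M]

theorem length_eq_finrank' : Module.length R M = Module.finrank (ResidueField R) M := by
  rw [Module.length_eq_of_surjective (R := ResidueField R) residue_surjective, Module.length_eq_finrank]

theorem isFiniteLength_vs : IsFiniteLength R M :=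
  Module.length_ne_top_iff.1 (by rw [length_eq_finrank']; exact ENat.natCast_ne_top _)

theorem smul_eq_residue (r : R) (m : M) : r • m = residue R r • m := by
  rw [← ResidueField.algebraMap_eq, algebraMap_smul]

theorem ιMulti_update_zero (e : Fin l → M) (a : Fin l) {y : M} (hy : y ∈ spanBefore R M e a) :
    exteriorPower.ιMulti (ResidueField R) l (Function.update e a y) = 0 := by
  induction hy using Submodule.span_induction with
  | mem y hy =>
    obtain ⟨k, hk, rfl⟩ := hy
    have hka : k ≠ a := fun h => by subst h; exact lt_irrefl (k : ℕ) hk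
    refine (exteriorPower.ιMulti (ResidueField R) l).map_eq_zero_of_eq _ ?_ hka.symm
    rw [Function.update_self, Function.update_of_ne hka]
  | zero => exact (exteriorPower.ιMulti (ResidueField R) l).map_coord_zero a (Function.update_self _ _ _)
  | add x z _ _ hx hz => rw [(exteriorPower.ιMulti (ResidueField R) l).map_update_add, hx, hz, add_zero]
  | smul r x _ hx =>
    rw [smul_eq_residue, (exteriorPower.ιMulti (ResidueField R) l).map_update_smul, hx, smul_zero]

theorem exists_exterior (hl : Module.length R M = l) :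
    ∃ Φ : DetOfLen R M l ≃ₗ[ResidueField R] (⋀[ResidueField R]^l M),
      ∀ e, Φ (sy e) = exteriorPower.ιMulti (ResidueField R) l e.1 := by
  haveI := (isFiniteLength_iff_isNoetherian_isArtinian.1 (isFiniteLength_vs (R := R) (M := M))).1
  haveI := (isFiniteLength_iff_isNoetherian_isArtinian.1 (isFiniteLength_vs (R := R) (M := M))).2
  have hd : Module.finrank (ResidueField R) M = l :=
    Nat.cast_injective (R := ℕ∞) ((length_eq_finrank' (R := R) (M := M)).symm.trans hl)
  let ι := exteriorPower.ιMulti (ResidueField R) l (M := M)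
  obtain ⟨Φ, hΦ⟩ := exists_lift (R := R) (M := M) (fun e : Adm R M l => ι e.1)
    (fun e a ha => by
      show ι e.1 = 0
      rw [← Function.update_eq_self a e.1]
      exact ιMulti_update_zero e.1 a ha)
    (fun e e' a c hne ha => by
      show ι e.1 = residue R (c : R) • ι e'.1
      have he : e.1 = Function.update e'.1 a ((c : R) • e'.1 a + (e.1 a - (c : R) • e'.1 a)) := by
        funext j
        by_cases hj : j = a
        · subst hj; rw [Function.update_self, add_sub_cancel]
        · rw [Function.update_of_ne hj, hne j hj]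
      have he' : Function.update e'.1 a (e.1 a - (c : R) • e'.1 a) = Function.update e.1 a (e.1 a - (c : R) • e'.1 a) := by
        funext j
        by_cases hj : j = a
        · subst hj; rw [Function.update_self, Function.update_self]
        · rw [Function.update_of_ne hj, Function.update_of_ne hj, hne j hj]
      conv_lhs => rw [he]
      rw [AlternatingMap.map_update_add, smul_eq_residue (R := R) (c : R) (e'.1 a), AlternatingMap.map_update_smul,
        Function.update_eq_self, ← smul_eq_residue (R := R) (c : R) (e'.1 a), he', ιMulti_update_zero e.1 a ha,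
        add_zero])
    (fun e e' a b hab _ he' => by
      show ι e.1 = -ι e'.1
      rw [he', AlternatingMap.map_swap _ _ (fun h => by subst h; omega), neg_neg])
  obtain ⟨f, hf⟩ := exists_gen' (R := R) (M := M) hl
  have hspan : ⊤ ≤ Submodule.span (ResidueField R) (Set.range f.1) := by
    intro m _
    exact Submodule.span_le_restrictScalars R (ResidueField R) (Set.range f.1) (hf.symm ▸ Submodule.mem_top)
  let b := Module.Basis.mk (linearIndependent_of_top_le_span_of_card_eq_finrank hspan (by rw [Fintype.card_fin, hd])) hspan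
  have hne : ι f.1 ≠ 0 := by
    intro h0
    have h1 := congrArg (exteriorPower.alternatingMapLinearEquiv b.det) h0
    rw [exteriorPower.alternatingMapLinearEquiv_apply_ιMulti, map_zero, show f.1 = ⇑b from (Module.Basis.coe_mk _ _).symm,
      b.det_self] at h1
    exact one_ne_zero h1
  have hrank : Module.finrank (ResidueField R) (⋀[ResidueField R]^l M) = 1 := by
    rw [exteriorPower.finrank_eq, hd, Nat.choose_self]
  refine ⟨LinearEquiv.ofBijective Φ ⟨(injective_iff_map_eq_zero Φ).2 fun x hx => ?_, fun y => ?_⟩, hΦ⟩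
  · obtain ⟨c, rfl⟩ := exists_smul_eq hl f hf x
    rw [map_smul, hΦ] at hx
    rw [(smul_eq_zero.1 hx).resolve_right hne, zero_smul]
  · obtain ⟨c, hc⟩ := exists_smul_eq_of_finrank_eq_one hrank hne y
    exact ⟨c • sy f, by rw [map_smul, hΦ]; exact hc⟩

end Exterior

section Exact

variable {K : Type v} {L : Type v} [AddCommGroup K] [Module R K] [AddCommGroup L] [Module R L]
  (f : K →ₗ[R] L) (g : L →ₗ[R] M) (hfg : LinearMap.range f = LinearMap.ker g) {p q : ℕ}

/-- The concatenation. -/
def cat (e : Fin p → K) (z : Fin q → L) : Fin (p + q) → L := Fin.append (fun i => f (e i)) z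

variable {f g}

theorem before_left (e : Fin p → K) (z : Fin q → L) (i : ℕ) :
    (spanBefore R K e i).map f ≤ spanBefore R L (cat f e z) i := by
  refine (Submodule.map_span_le _ _ _).2 ?_
  rintro _ ⟨k, hk, rfl⟩
  exact Submodule.subset_span ⟨Fin.castAdd q k, hk, Fin.append_left _ _ k⟩

include hfg in
theorem mem_right {e : Fin p → K} (he : Gen (R := R) e) (z : Fin q → L) (j : ℕ) {y : L}
    (hy : g y ∈ spanBefore R M (fun k => g (z k)) j) : y ∈ spanBefore R L (cat f e z) (p + j) := by
  have hle : spanBefore R M (fun k => g (z k)) j ≤ (spanBefore R L (cat f e z) (p + j)).map g := Submodule.span_le.2 (by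
    rintro _ ⟨k, hk, rfl⟩
    exact ⟨z k, Submodule.subset_span ⟨Fin.natAdd p k, Nat.add_lt_add_left hk p, Fin.append_right _ _ k⟩, rfl⟩)
  obtain ⟨w, hw, hwy⟩ := hle hy
  have hker : y - w ∈ LinearMap.range f := by
    rw [hfg, LinearMap.mem_ker, map_sub, hwy, sub_self]
  obtain ⟨k, hk⟩ := hker
  have : f k ∈ spanBefore R L (cat f e z) (p + j) :=
    before_mono _ (Nat.le_add_right p j) (before_left e z p ⟨k, by rw [before_top, he]; trivial, rfl⟩)
  simpa [hk] using add_mem this hw

include hfg in
theorem cat_admissible {e : Fin p → K} (he : IsAdmissible R K e) (hg : Gen (R := R) e) {z : Fin q → L}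
    (hz : IsAdmissible R M fun k => g (z k)) : IsAdmissible R L (cat f e z) := by
  intro i r hr
  induction i using Fin.addCases with
  | left i =>
    rw [cat, Fin.append_left, ← map_smul]
    exact before_left e z i ⟨_, he i r hr, rfl⟩
  | right j =>
    rw [cat, Fin.append_right]
    exact mem_right hfg hg z j (by rw [map_smul]; exact hz j r hr)

include hfg in
theorem sy_congr {e : Fin p → K} (hg : Gen (R := R) e) (z z' : Fin q → L) (hzz : ∀ j, g (z j) = g (z' j))
    (h : IsAdmissible R L (cat f e z)) (h' : IsAdmissible R L (cat f e z'))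
    (he : IsAdmissible R K e) (hz : IsAdmissible R M fun k => g (z k)) :
    sy ⟨cat f e z, h⟩ = sy ⟨cat f e z', h'⟩ := by
  classical
  have hall : ∀ s : Finset (Fin q), ∀ hs : IsAdmissible R L (cat f e (s.piecewise z' z)),
      sy ⟨cat f e z, h⟩ = sy ⟨cat f e (s.piecewise z' z), hs⟩ := by
    intro s
    induction s using Finset.induction_on with
    | empty => intro hs; congr
    | insert a s has ih =>
      intro hs
      have hgs : ∀ t : Finset (Fin q), (fun k => g (t.piecewise z' z k)) = fun k => g (z k) := fun t => by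
        funext k
        by_cases hk : k ∈ t
        · rw [Finset.piecewise_eq_of_mem _ _ _ hk, hzz]
        · rw [Finset.piecewise_eq_of_notMem _ _ _ hk]
      have hs' : IsAdmissible R L (cat f e (s.piecewise z' z)) := cat_admissible hfg he hg (by rw [hgs]; exact hz)
      rw [ih hs', sy_change ⟨_, hs'⟩ ⟨_, hs⟩ (Fin.natAdd p a) 1 ?_ ?_, Units.val_one, map_one, one_smul]
      · intro i hi
        induction i using Fin.addCases with
        | left i => simp [cat]
        | right j =>
          have hja : j ≠ a := fun hh => hi (hh ▸ rfl)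
          simp [cat, Finset.piecewise_insert, Function.update_of_ne hja]
      · refine mem_right hfg hg _ a ?_
        simp only [cat, Fin.append_right, Units.val_one, one_smul, map_sub]
        rw [Finset.piecewise_eq_of_notMem _ _ _ has, Finset.piecewise_eq_of_mem _ _ _ (Finset.mem_insert_self _ _),
          hzz, sub_self]
        exact zero_mem _
  have huniv : (Finset.univ : Finset (Fin q)).piecewise z' z = z' := Finset.piecewise_univ _ _
  exact (hall Finset.univ (huniv.symm ▸ h')).trans (by congr)

theorem cat_swap_right (e : Fin p → K) (z : Fin q → L) (a b : Fin q) :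
    cat f e (z ∘ Equiv.swap a b) = cat f e z ∘ Equiv.swap (Fin.natAdd p a) (Fin.natAdd p b) := by
  funext i
  induction i using Fin.addCases with
  | left i =>
    have hne : ∀ c : Fin q, Fin.castAdd q i ≠ Fin.natAdd p c := fun c => Fin.ne_of_val_ne (by simp; omega)
    simp [cat, Equiv.swap_apply_of_ne_of_ne (hne a) (hne b)]
  | right j =>
    have hinj : Function.Injective (Fin.natAdd p : Fin q → Fin (p + q)) := fun c d h => Fin.ext (by simpa [Fin.ext_iff] using h)
    simp [cat, Function.comp_apply, hinj.swap_apply]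

theorem cat_swap_left (e : Fin p → K) (z : Fin q → L) (a b : Fin p) :
    cat f (e ∘ Equiv.swap a b) z = cat f e z ∘ Equiv.swap (Fin.castAdd q a) (Fin.castAdd q b) := by
  funext i
  induction i using Fin.addCases with
  | left i =>
    have hinj : Function.Injective (Fin.castAdd q : Fin p → Fin (p + q)) := fun c d h => Fin.ext (by simpa [Fin.ext_iff] using h)
    simp [cat, Function.comp_apply, hinj.swap_apply]
  | right j =>
    have hne : ∀ c : Fin p, Fin.natAdd p j ≠ Fin.castAdd q c := fun c => Fin.ne_of_val_ne (by simp; omega)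
    simp [cat, Equiv.swap_apply_of_ne_of_ne (hne a) (hne b)]

/-- The admissible concatenation of a generating tuple with chosen lifts. -/
def catAdm (hfg : LinearMap.range f = LinearMap.ker g) (s : M → L) (hs : ∀ m, g (s m) = m) (eK : Adm R K p)
    (hgK : Gen (R := R) eK.1) (eM : Adm R M q) : Adm R L (p + q) :=
  ⟨cat f eK.1 (fun k => s (eM.1 k)), cat_admissible hfg eK.2 hgK (by simp only [hs]; exact eM.2)⟩

theorem catAdm_val (hfg : LinearMap.range f = LinearMap.ker g) (s : M → L) (hs : ∀ m, g (s m) = m) (eK : Adm R K p)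
    (hgK : Gen (R := R) eK.1) (eM : Adm R M q) :
    (catAdm hfg s hs eK hgK eM).1 = cat f eK.1 (fun k => s (eM.1 k)) := rfl

variable [IsNoetherian R K] [IsArtinian R K] [IsNoetherian R L] [IsArtinian R L]
  [IsNoetherian R M] [IsArtinian R M]

include hfg in
theorem exists_gamma (hg : Function.Surjective g) (hK : Module.length R K = p) (hM : Module.length R M = q)
    (hL : Module.length R L = (p + q : ℕ)) :
    ∃ γ : (DetOfLen R K p ⊗[ResidueField R] DetOfLen R M q) ≃ₗ[ResidueField R] DetOfLen R L (p + q),
      ∀ (eK : Adm R K p) (eM : Adm R M q) (eL : Adm R L (p + q)), sy eK ≠ 0 →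
        (∀ i : Fin p, eL.1 (Fin.castAdd q i) = f (eK.1 i)) →
        (∀ j : Fin q, g (eL.1 (Fin.natAdd p j)) = eM.1 j) → γ (sy eK ⊗ₜ sy eM) = sy eL := by
  classical
  choose s hs using hg
  have hz : ∀ eM : Adm R M q, IsAdmissible R M fun k => g (s (eM.1 k)) := fun eM => by
    simp only [hs]; exact eM.2
  have hlin : ∀ (eK : Adm R K p) (hgK : Gen (R := R) eK.1),
      ∃ Φ : DetOfLen R M q →ₗ[ResidueField R] DetOfLen R L (p + q), ∀ eM, Φ (sy eM) = sy (catAdm hfg s hs eK hgK eM) := by
    intro eK hgK
    refine exists_lift (fun eM => sy (catAdm hfg s hs eK hgK eM)) (fun eM a ha => ?_) (fun eM eM' a c hne ha => ?_)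
      fun eM eM' a b hab hm he' => ?_
    · refine sy_zero _ (Fin.natAdd p a) ?_
      simp only [catAdm_val]
      rw [cat, Fin.append_right]
      exact mem_right hfg hgK _ a (by simp only [hs]; exact ha)
    · refine sy_change _ _ (Fin.natAdd p a) c (fun i hi => ?_) ?_
      · simp only [catAdm_val]
        induction i using Fin.addCases with
        | left i => simp [cat]
        | right j => simp [cat, hne j fun hh => hi (hh ▸ rfl)]
      · simp only [catAdm_val]
        simp only [cat, Fin.append_right]
        exact mem_right hfg hgK _ a (by simp only [map_sub, map_smul, hs]; exact ha)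
    · refine sy_swap _ _ (Fin.natAdd p a) (Fin.natAdd p b) (by simp; omega) (fun r hr => ?_) ?_
      · simp only [catAdm_val]
        simp only [cat, Fin.append_right]
        exact mem_right hfg hgK _ b (by simp only [map_smul, hs]; exact hm r hr)
      · simp only [catAdm_val]
        rw [← cat_swap_right, he']
        rfl
  choose Φ hΦ using hlin
  let Ψ : Adm R K p → (DetOfLen R M q →ₗ[ResidueField R] DetOfLen R L (p + q)) := fun eK =>
    if h : Gen (R := R) eK.1 then Φ eK h else 0
  have hext : ∀ {A B : DetOfLen R M q →ₗ[ResidueField R] DetOfLen R L (p + q)},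
      (∀ eM, A (sy eM) = B (sy eM)) → A = B := fun {A B} h => by
    obtain ⟨f0, hf0⟩ := exists_gen' (R := R) (M := M) hM
    refine LinearMap.ext fun x => ?_
    obtain ⟨c, rfl⟩ := exists_smul_eq hM f0 hf0 x
    rw [map_smul, map_smul, h]
  obtain ⟨B, hB⟩ := exists_lift (R := R) (M := K) Ψ
    (fun eK a ha => dif_neg fun hgK => not_mem_before hK eK.2 hgK a ha)
    (fun eK eK' a c hne ha => by
      have hiff : Gen (R := R) eK'.1 ↔ Gen (R := R) eK.1 := by
        rw [Gen, Gen, ← before_top, ← before_top, before_eq_of_change hne ha]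
      by_cases hgK : Gen (R := R) eK.1
      · simp only [Ψ, dif_pos hgK, dif_pos (hiff.2 hgK)]
        refine hext fun eM => ?_
        rw [LinearMap.smul_apply, hΦ, hΦ]
        refine sy_change _ _ (Fin.castAdd q a) c (fun i hi => ?_) ?_
        · simp only [catAdm_val]
          induction i using Fin.addCases with
          | left j => simp [cat, hne j fun hh => hi (hh ▸ rfl)]
          | right j => simp [cat]
        · simp only [catAdm_val]
          simp only [cat, Fin.append_left, ← map_smul, ← map_sub]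
          exact before_left eK.1 _ a ⟨_, ha, rfl⟩
      · simp only [Ψ, dif_neg hgK, dif_neg fun h => hgK (hiff.1 h), smul_zero])
    (fun eK eK' a b hab hm he' => by
      have hiff : Gen (R := R) eK'.1 ↔ Gen (R := R) eK.1 := by
        rw [he', Gen, Gen, (Equiv.swap a b).surjective.range_comp]
      by_cases hgK : Gen (R := R) eK.1
      · simp only [Ψ, dif_pos hgK, dif_pos (hiff.2 hgK)]
        refine hext fun eM => ?_
        rw [LinearMap.neg_apply, hΦ, hΦ]
        refine sy_swap _ _ (Fin.castAdd q a) (Fin.castAdd q b) hab (fun r hr => ?_) ?_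
        · simp only [catAdm_val]
          simp only [cat, Fin.append_left, ← map_smul]
          exact before_left eK.1 _ b ⟨_, hm r hr, rfl⟩
        · simp only [catAdm_val]
          rw [← cat_swap_left, he']
      · simp only [Ψ, dif_neg hgK, dif_neg fun h => hgK (hiff.1 h), neg_zero])
  let γ0 := TensorProduct.lift B
  have hrule : ∀ (eK : Adm R K p) (hgK : Gen (R := R) eK.1) (eM : Adm R M q),
      γ0 (sy eK ⊗ₜ sy eM) = sy (catAdm hfg s hs eK hgK eM) := fun eK hgK eM => by
    rw [TensorProduct.lift.tmul, hB]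
    simp only [Ψ, dif_pos hgK, hΦ]
  obtain ⟨k0, hk0⟩ := exists_gen' (R := R) (M := K) hK
  obtain ⟨m0, hm0⟩ := exists_gen' (R := R) (M := M) hM
  have hCgen : Gen (R := R) (catAdm hfg s hs k0 hk0 m0).1 := by
    rw [catAdm_val, Gen, ← before_top, eq_top_iff]
    intro y _
    refine mem_right (y := y) hfg hk0 (fun k => s (m0.1 k)) q ?_
    simp only [hs]
    rw [before_top, hm0]
    trivial
  have hne := sy_ne_zero hL (catAdm hfg s hs k0 hk0 m0) hCgen
  have hex : ∀ x : DetOfLen R K p ⊗[ResidueField R] DetOfLen R M q,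
      ∃ c : ResidueField R, c • (sy k0 ⊗ₜ[ResidueField R] sy m0) = x := by
    intro x
    induction x using TensorProduct.induction_on with
    | zero => exact ⟨0, zero_smul _ _⟩
    | tmul a b =>
      obtain ⟨c, rfl⟩ := exists_smul_eq hK k0 hk0 a
      obtain ⟨d, rfl⟩ := exists_smul_eq hM m0 hm0 b
      exact ⟨c * d, by rw [TensorProduct.smul_tmul', TensorProduct.tmul_smul, TensorProduct.smul_tmul', smul_smul, mul_comm]⟩
    | add a b ha hb =>
      obtain ⟨c, rfl⟩ := ha
      obtain ⟨d, rfl⟩ := hb
      exact ⟨c + d, add_smul _ _ _⟩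
  refine ⟨LinearEquiv.ofBijective γ0 ⟨(injective_iff_map_eq_zero γ0).2 fun x hx => ?_, fun y => ?_⟩,
    fun eK eM eL hK0 h1 h2 => ?_⟩
  · obtain ⟨c, rfl⟩ := hex x
    rw [map_smul, hrule k0 hk0 m0] at hx
    rw [(smul_eq_zero.1 hx).resolve_right hne, zero_smul]
  · obtain ⟨c, rfl⟩ := exists_smul_eq hL _ hCgen y
    exact ⟨c • (sy k0 ⊗ₜ sy m0), by rw [map_smul, hrule k0 hk0 m0]⟩
  · have hgK : Gen (R := R) eK.1 := by_contra fun h => hK0 (sy_nongen hK eK h)
    show γ0 _ = _
    rw [hrule eK hgK eM]
    have heL : eL.1 = cat f eK.1 fun j => eL.1 (Fin.natAdd p j) := by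
      funext i
      induction i using Fin.addCases with
      | left i => simp [cat, h1 i]
      | right j => simp [cat]
    have hz' : IsAdmissible R M fun k => g ((fun j => eL.1 (Fin.natAdd p j)) k) := by
      simp only [h2]; exact eM.2
    rw [show eL = ⟨_, cat_admissible hfg eK.2 hgK hz'⟩ from Subtype.ext heL]
    exact sy_congr hfg hgK _ _ (fun j => by rw [hs, h2]) _ _ eK.2 (hz eM)

end Exact

end Groth.Agent.CycDet50
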