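import Groth.Agent.CycDet50.Det
import Mathlib.Algebra.Module.LocalizedModule.Submodule
import Mathlib.RingTheory.Localization.AtPrime.Basic
import Mathlib.RingTheory.Localization.Module
import Mathlib.RingTheory.LocalRing.ResidueField.Ideal

/-! Tuples whose successive spans have quotients `R/q`. -/

set_option autoImplicit false
set_option linter.unusedSectionVars false
set_option linter.style.haveILetI false

universe u

namespace Groth.Agent.CycDet50

open CycDet

section Bound

variable {R : Type u} [CommRing R] [IsLocalRing R] {M : Type u} [AddCommGroup M] [Module R M] {l : ℕ}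

theorem length_le_of_adm {e : Fin l → M} (he : IsAdmissible R M e) :
    Module.length R (Submodule.span R (Set.range e) : Submodule R M) ≤ l := by
  rw [← before_top]
  suffices h : ∀ k ≤ l, Module.length R (spanBefore R M e k : Submodule R M) ≤ k from h l le_rfl
  intro k
  induction k with
  | zero => intro _; rw [before_zero, Module.length_bot]; exact bot_le
  | succ k ih =>
    intro hk
    push_cast
    let P := spanBefore R M e k
    let Q := spanBefore R M e (k + 1)
    let a : Fin l := ⟨k, hk⟩
    have hPQ : P ≤ Q := before_mono e (Nat.le_succ _)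
    rw [Module.length_eq_add_of_exact (Submodule.inclusion hPQ) (P.submoduleOf Q).mkQ (Submodule.inclusion_injective _)
      (Submodule.mkQ_surjective _) (LinearMap.exact_iff.2 (by
        rw [Submodule.ker_mkQ, Submodule.range_inclusion]; rfl))]
    refine add_le_add (ih (by omega)) ?_
    let φ : R →ₗ[R] Q ⧸ P.submoduleOf Q :=
      LinearMap.toSpanSingleton R _ (Submodule.Quotient.mk ⟨e a, mem_before e (a := a) (Nat.lt_succ_self k)⟩)
    have hφ : IsLocalRing.maximalIdeal R ≤ LinearMap.ker φ := fun r hr => by
      rw [LinearMap.mem_ker, LinearMap.toSpanSingleton_apply, ← Submodule.Quotient.mk_smul, Submodule.Quotient.mk_eq_zero]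
      exact he a r hr
    have hs : Function.Surjective (Submodule.liftQ (IsLocalRing.maximalIdeal R) φ hφ) := by
      intro y
      obtain ⟨⟨y, hy⟩, rfl⟩ := Submodule.Quotient.mk_surjective _ y
      have hy' : y ∈ spanBefore R M e (a + 1) := hy
      rw [before_succ, Submodule.mem_sup] at hy'
      obtain ⟨p, hp, _, hq, rfl⟩ := hy'
      obtain ⟨r, rfl⟩ := Submodule.mem_span_singleton.1 hq
      refine ⟨Submodule.Quotient.mk r, ?_⟩
      rw [Submodule.liftQ_apply, LinearMap.toSpanSingleton_apply, ← Submodule.Quotient.mk_smul, Submodule.Quotient.eq]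
      show r • e a - (p + r • e a) ∈ P
      simpa using P.neg_mem hp
    haveI : IsSimpleModule R (R ⧸ IsLocalRing.maximalIdeal R) :=
      isSimpleModule_iff_isCoatom.2 (IsLocalRing.maximalIdeal.isMaximal R).1
    exact (Module.length_le_of_surjective _ hs).trans (le_of_eq (Module.length_eq_one R _))

theorem length_eq_of_strict [IsNoetherian R M] [IsArtinian R M] {e : Fin l → M} (he : IsAdmissible R M e)
    (hg : Gen (R := R) e) (h : ∀ a : Fin l, e a ∉ spanBefore R M e a) : Module.length R M = l := by
  refine le_antisymm ?_ ?_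
  · have := length_le_of_adm he
    rwa [hg, Module.length_top] at this
  · suffices hk : ∀ k ≤ l, (k : ℕ∞) ≤ Module.length R (spanBefore R M e k : Submodule R M) by
      have := hk l le_rfl
      rwa [before_top, hg, Module.length_top] at this
    intro k
    induction k with
    | zero => intro _; exact bot_le
    | succ k ih =>
      intro hk
      have hlt : spanBefore R M e k < spanBefore R M e (k + 1) :=
        lt_of_le_of_ne (before_mono e (Nat.le_succ k)) fun heq =>
          h ⟨k, hk⟩ (heq ▸ mem_before e (a := ⟨k, hk⟩) (Nat.lt_succ_self k))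
      have hne : (spanBefore R M e k).submoduleOf (spanBefore R M e (k + 1)) ≠ ⊤ := fun ht =>
        hlt.not_ge (Submodule.submoduleOf_eq_top.1 ht)
      have h1 := Submodule.length_lt hne
      rw [(Submodule.submoduleOfEquivOfLe hlt.le).length_eq] at h1
      push_cast
      exact (add_le_add (ih (by omega)) le_rfl).trans (Order.add_one_le_of_lt h1)

end Bound

variable {R : Type u} [CommRing R] [IsLocalRing R] (q : Ideal R) [hq : q.IsPrime] {N : Type u} [AddCommGroup N] [Module R N] {l : ℕ}

/-- All steps are `R/q`. -/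
structure Good (g : Fin l → N) : Prop where
  adm : ∀ (i : Fin l), ∀ r ∈ q, r • g i ∈ spanBefore R N g i
  strict : ∀ (i : Fin l) (s : R), s ∉ q → s • g i ∉ spanBefore R N g i

variable {q}

theorem Good.smul_mem_iff {g : Fin l → N} (hg : Good q g) (i : Fin l) (r : R) :
    r • g i ∈ spanBefore R N g i ↔ r ∈ q :=
  ⟨fun h => by_contra fun hr => hg.strict i r hr h, hg.adm i r⟩

theorem Good.torsion_free {g : Fin l → N} (hg : Good q g) {s : R} (hs : s ∉ q) :
    ∀ {z : N}, z ∈ Submodule.span R (Set.range g) → s • z = 0 → z = 0 := by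
  suffices h : ∀ k ≤ l, ∀ z ∈ spanBefore R N g k, s • z = 0 → z = 0 by
    intro z hz h0
    exact h l le_rfl z (by rwa [before_top]) h0
  intro k
  induction k with
  | zero =>
    intro _ z hz _
    rw [before_zero] at hz
    exact (Submodule.mem_bot R).1 hz
  | succ k ih =>
    intro hk z hz h0
    rw [show k = ((⟨k, hk⟩ : Fin l) : ℕ) from rfl, before_succ, Submodule.mem_sup] at hz
    obtain ⟨p, hp, _, hw, rfl⟩ := hz
    obtain ⟨r, rfl⟩ := Submodule.mem_span_singleton.1 hw
    refine ih (by omega) _ (add_mem hp ?_) h0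
    refine hg.adm ⟨k, hk⟩ r ((hq.mem_or_mem ((hg.smul_mem_iff ⟨k, hk⟩ (s * r)).1 ?_)).resolve_left hs)
    rw [mul_smul, show s • r • g ⟨k, hk⟩ = -(s • p) by rw [eq_neg_iff_add_eq_zero, add_comm, ← smul_add]; exact h0]
    exact Submodule.neg_mem _ (Submodule.smul_mem _ _ hp)

section Local

local notation "L" => Localization.AtPrime q
local notation "Nq" => LocalizedModule q.primeCompl N
local notation "j" => LocalizedModule.mkLinearMap q.primeCompl N

theorem algebraMap_smul_j (r : R) (n : N) : algebraMap R L r • j n = j (r • n) := by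
  rw [algebraMap_smul, map_smul]

theorem mem_local_before (g : Fin l → N) (k : ℕ) {z : Nq}
    (hz : z ∈ spanBefore L Nq (fun i => j (g i)) k) :
    ∃ s : R, s ∉ q ∧ ∃ y ∈ spanBefore R N g k, s • z = j y := by
  induction hz using Submodule.span_induction with
  | mem z hz =>
    obtain ⟨i, hi, rfl⟩ := hz
    exact ⟨1, fun h => hq.ne_top ((Ideal.eq_top_iff_one q).2 h), g i, mem_before g hi, one_smul _ _⟩
  | zero => exact ⟨1, fun h => hq.ne_top ((Ideal.eq_top_iff_one q).2 h), 0, zero_mem _, by simp⟩
  | add z w _ _ hz hw =>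
    obtain ⟨s, hs, y, hy, hsy⟩ := hz
    obtain ⟨t, ht, x, hx, htx⟩ := hw
    refine ⟨s * t, fun h => (hq.mem_or_mem h).elim hs ht, t • y + s • x,
      add_mem (Submodule.smul_mem _ _ hy) (Submodule.smul_mem _ _ hx), ?_⟩
    rw [map_add, map_smul, map_smul, ← hsy, ← htx, smul_smul, smul_smul, smul_add, mul_comm t s]
  | smul c z _ hz =>
    obtain ⟨s, hs, y, hy, hsy⟩ := hz
    obtain ⟨a, u, rfl⟩ := IsLocalization.exists_mk'_eq q.primeCompl c
    refine ⟨s * u, fun h => (hq.mem_or_mem h).elim hs u.2, a • y, Submodule.smul_mem _ _ hy, ?_⟩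
    rw [map_smul, ← hsy, ← algebraMap_smul L (s * (u : R)), ← algebraMap_smul L s z, ← algebraMap_smul L a,
      smul_smul, smul_smul, map_mul]
    congr 1
    rw [mul_assoc, IsLocalization.mk'_spec' L a u, mul_comm]

theorem before_local_mem {g : Fin l → N} {k : ℕ} {y : N} (hy : y ∈ spanBefore R N g k) :
    j y ∈ spanBefore L Nq (fun i => j (g i)) k := by
  induction hy using Submodule.span_induction with
  | mem y hy => obtain ⟨i, hi, rfl⟩ := hy; exact mem_before (fun i => j (g i)) hi
  | zero => rw [map_zero]; exact zero_mem _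
  | add a b _ _ ha hb => rw [map_add]; exact add_mem ha hb
  | smul r a _ ha => rw [map_smul, ← algebraMap_smul (Localization.AtPrime q) r]; exact Submodule.smul_mem _ _ ha

/-- `q z ⊆` an earlier span passes to the localisation. -/
theorem local_smul_mem {g : Fin l → N} {k : ℕ} {z : N} (h : ∀ r ∈ q, r • z ∈ spanBefore R N g k) :
    ∀ r ∈ IsLocalRing.maximalIdeal L, r • j z ∈ spanBefore L Nq (fun i => j (g i)) k := by
  intro r hr
  obtain ⟨a, s, rfl⟩ := IsLocalization.exists_mk'_eq q.primeCompl r
  have ha : a ∈ q := (IsLocalization.AtPrime.mk'_mem_maximal_iff L q a s).1 hr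
  rw [IsLocalization.mk'_eq_mul_mk'_one, mul_comm, mul_smul, algebraMap_smul, ← map_smul]
  exact Submodule.smul_mem _ _ (before_local_mem (h a ha))

theorem Good.isAdmissible {g : Fin l → N} (hg : Good q g) : IsAdmissible L Nq fun i => j (g i) :=
  fun i => local_smul_mem (hg.adm i)

theorem Good.local_strict {g : Fin l → N} (hg : Good q g) (i : Fin l) :
    j (g i) ∉ spanBefore L Nq (fun k => j (g k)) i := by
  intro h
  obtain ⟨s, hs, y, hy, hsy⟩ := mem_local_before g i h
  rw [← map_smul] at hsy
  obtain ⟨t, ht⟩ := (IsLocalizedModule.eq_iff_exists q.primeCompl j).1 hsy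
  refine hg.strict i (t * s) (fun h => (hq.mem_or_mem h).elim t.2 hs) ?_
  rw [mul_smul, show (t : R) • s • g i = (t : R) • y from ht]
  exact Submodule.smul_mem _ _ hy

theorem local_span_top {g : Fin l → N} (htop : ∀ n : N, ∃ s : R, s ∉ q ∧ s • n ∈ Submodule.span R (Set.range g)) :
    Gen (R := L) fun i => j (g i) := by
  rw [Gen, eq_top_iff]
  intro z _
  obtain ⟨⟨n, s⟩, hz⟩ := IsLocalizedModule.surj q.primeCompl j z
  obtain ⟨t, ht, hn⟩ := htop n
  have hmem : algebraMap R L (t * s) • z ∈ Submodule.span L (Set.range fun i => j (g i)) := by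
    rw [← before_top, algebraMap_smul, mul_smul, show (s : R) • z = j n from hz, ← map_smul]
    exact before_local_mem (by rw [before_top]; exact hn)
  obtain ⟨v, hv⟩ := IsLocalization.map_units L (⟨t * s, fun h => (hq.mem_or_mem h).elim ht s.2⟩ : q.primeCompl)
  rw [← hv] at hmem
  simpa [smul_smul] using Submodule.smul_mem _ (↑v⁻¹ : L) hmem

theorem Good.isFiniteLength {g : Fin l → N} (hg : Good q g)
    (htop : ∀ n : N, ∃ s : R, s ∉ q ∧ s • n ∈ Submodule.span R (Set.range g)) : IsFiniteLength L Nq := by
  refine Module.length_ne_top_iff.1 (ne_top_of_le_ne_top (ENat.natCast_ne_top l) ?_)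
  have h := length_le_of_adm hg.isAdmissible
  rwa [show Submodule.span L (Set.range fun i => j (g i)) = ⊤ from local_span_top htop, Module.length_top] at h

theorem Good.length_eq {g : Fin l → N} (hg : Good q g)
    (htop : ∀ n : N, ∃ s : R, s ∉ q ∧ s • n ∈ Submodule.span R (Set.range g)) :
    Module.length L Nq = l :=
  haveI := (isFiniteLength_iff_isNoetherian_isArtinian.1 (hg.isFiniteLength htop)).1
  haveI := (isFiniteLength_iff_isNoetherian_isArtinian.1 (hg.isFiniteLength htop)).2
  length_eq_of_strict hg.isAdmissible (local_span_top htop) hg.local_strict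

end Local

end Groth.Agent.CycDet50
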