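import Groth.Agent.CycDet50.Good
import Groth.Agent.Len90.OrdFrac
import Mathlib.LinearAlgebra.Quotient.Basic

/-! The length of the cokernel as the order of the ratio of symbols. -/

set_option autoImplicit false
set_option linter.unusedSectionVars false
set_option linter.style.haveILetI false

universe u

namespace Groth.Agent.CycDet50

open CycDet

section Len

variable {R : Type u} [CommRing R] {N : Type u} [AddCommGroup N] [Module R N]

/-- The length of `Q / P`. -/
noncomputable def len (P Q : Submodule R N) : ℕ∞ := Module.length R (Q.map P.mkQ)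

theorem len_self (P : Submodule R N) : len P P = 0 := by
  rw [len, Submodule.mkQ_map_self, Module.length_bot]

theorem len_add {P S Q : Submodule R N} (hPS : P ≤ S) (hSQ : S ≤ Q) : len P Q = len P S + len S Q := by
  have hg : ∀ z ∈ Q.map P.mkQ, Submodule.factor hPS z ∈ Q.map S.mkQ := by
    rintro _ ⟨a, ha, rfl⟩
    exact ⟨a, ha, rfl⟩
  refine Module.length_eq_add_of_exact (Submodule.inclusion (Submodule.map_mono hSQ))
    ((Submodule.factor hPS).restrict hg) (Submodule.inclusion_injective _) ?_ ?_
  · rintro ⟨_, a, ha, rfl⟩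
    exact ⟨⟨P.mkQ a, a, ha, rfl⟩, Subtype.ext rfl⟩
  · rintro ⟨_, a, ha, rfl⟩
    constructor
    · intro h
      have h' : S.mkQ a = 0 := congrArg Subtype.val h
      rw [Submodule.mkQ_apply, Submodule.Quotient.mk_eq_zero] at h'
      exact ⟨⟨P.mkQ a, a, h', rfl⟩, Subtype.ext rfl⟩
    · rintro ⟨⟨_, b, hb, rfl⟩, h⟩
      refine Subtype.ext ?_
      show Submodule.factor hPS (P.mkQ a) = 0
      rw [← show P.mkQ b = P.mkQ a from congrArg Subtype.val h]
      exact (Submodule.Quotient.mk_eq_zero S).2 hb

theorem len_sup {A B P : Submodule R N} (hA : B ≤ A) (hP : B ≤ P) (h : A ⊓ P ≤ B) :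
    len P (A ⊔ P) = len B A := by
  have hg : ∀ z ∈ A.map B.mkQ, Submodule.factor hP z ∈ (A ⊔ P).map P.mkQ := by
    rintro _ ⟨a, ha, rfl⟩
    exact ⟨a, Submodule.mem_sup_left ha, rfl⟩
  refine (LinearEquiv.length_eq (LinearEquiv.ofBijective ((Submodule.factor hP).restrict hg) ⟨?_, ?_⟩)).symm
  · refine (injective_iff_map_eq_zero _).2 ?_
    rintro ⟨_, a, ha, rfl⟩ h0
    have h' : P.mkQ a = 0 := congrArg Subtype.val h0
    rw [Submodule.mkQ_apply, Submodule.Quotient.mk_eq_zero] at h'
    exact Subtype.ext ((Submodule.Quotient.mk_eq_zero B).2 (h ⟨ha, h'⟩))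
  · rintro ⟨_, z, hz, rfl⟩
    obtain ⟨a, ha, p, hp, rfl⟩ := Submodule.mem_sup.1 hz
    refine ⟨⟨B.mkQ a, a, ha, rfl⟩, Subtype.ext ?_⟩
    show P.mkQ a = P.mkQ (a + p)
    rw [map_add, show P.mkQ p = 0 from (Submodule.Quotient.mk_eq_zero P).2 hp, add_zero]

theorem len_top (P : Submodule R N) : len P ⊤ = Module.length R (N ⧸ P) := by
  rw [len, Submodule.map_top, Submodule.range_mkQ, Module.length_top]

/-- A cyclic step with annihilator `q + (c)`. -/
theorem len_cyclic (q : Ideal R) (S : Submodule R N) (z : N) (c : R)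
    (h : ∀ r : R, r • z ∈ S ↔ r ∈ q ⊔ Ideal.span {c}) :
    len S (S ⊔ Submodule.span R {z}) = Ring.ord (R ⧸ q) (Ideal.Quotient.mk q c) := by
  let T := (S ⊔ Submodule.span R {z}).map S.mkQ
  have hz : S.mkQ z ∈ T := ⟨z, Submodule.mem_sup_right (Submodule.mem_span_singleton_self z), rfl⟩
  let φ : R →ₗ[R] T := LinearMap.toSpanSingleton R T ⟨S.mkQ z, hz⟩
  have hφ : ∀ r, φ r = 0 ↔ r • z ∈ S := fun r => by
    rw [← Submodule.Quotient.mk_eq_zero S, Subtype.ext_iff]
    rfl
  have hs : Function.Surjective φ := by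
    rintro ⟨_, w, hw, rfl⟩
    obtain ⟨p, hp, _, hv, rfl⟩ := Submodule.mem_sup.1 hw
    obtain ⟨r, rfl⟩ := Submodule.mem_span_singleton.1 hv
    refine ⟨r, Subtype.ext ?_⟩
    show r • S.mkQ z = S.mkQ (p + r • z)
    rw [map_add, show S.mkQ p = 0 from (Submodule.Quotient.mk_eq_zero S).2 hp, zero_add, map_smul]
  let π : R →ₗ[R] (R ⧸ q) ⧸ Ideal.span {Ideal.Quotient.mk q c} :=
    (Submodule.mkQ (Ideal.span {Ideal.Quotient.mk q c})).restrictScalars R ∘ₗ q.mkQ
  have hker : LinearMap.ker φ = LinearMap.ker π := by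
    ext r
    rw [LinearMap.mem_ker, hφ, h, LinearMap.mem_ker]
    show _ ↔ Submodule.Quotient.mk (Ideal.Quotient.mk q r) = 0
    rw [Submodule.Quotient.mk_eq_zero, ← Set.image_singleton, ← Ideal.map_span,
      Ideal.mem_map_iff_of_surjective _ Ideal.Quotient.mk_surjective]
    constructor
    · intro hr
      obtain ⟨a, ha, b, hb, rfl⟩ := Submodule.mem_sup.1 hr
      exact ⟨b, hb, by simp [Ideal.Quotient.eq_zero_iff_mem.2 ha]⟩
    · rintro ⟨b, hb, hbr⟩
      rw [show r = (r - b) + b by ring]
      exact add_mem (Submodule.mem_sup_left (Ideal.Quotient.eq.1 hbr.symm)) (Submodule.mem_sup_right hb)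
  have hπ : Function.Surjective π :=
    (Submodule.mkQ_surjective (Ideal.span {Ideal.Quotient.mk q c})).comp Ideal.Quotient.mk_surjective
  show Module.length R T = _
  rw [← ((φ.quotKerEquivOfSurjective hs).symm.trans ((Submodule.quotEquivOfEq _ _ hker).trans
    (π.quotKerEquivOfSurjective hπ))).symm.length_eq]
  exact Module.length_eq_of_surjective (R := R ⧸ q) Ideal.Quotient.mk_surjective

end Len

variable {R : Type u} [CommRing R] [IsNoetherianRing R] [IsLocalRing R] {q : Ideal R} [hq : q.IsPrime]
  [Ring.KrullDimLE 1 (R ⧸ q)] {N : Type u} [AddCommGroup N] [Module R N] {l : ℕ}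

local notation "L" => Localization.AtPrime q
local notation "Nq" => LocalizedModule q.primeCompl N
local notation "j" => LocalizedModule.mkLinearMap q.primeCompl N
local notation "κ" => Ideal.ResidueField q
local notation "ν" => CycAlg.ordFrac (R ⧸ q) (Ideal.ResidueField q)

/-- The local tuple of a good tuple. -/
noncomputable def loc {g : Fin l → N} (hg : Good q g) : Adm L Nq l := ⟨fun i => j (g i), hg.isAdmissible⟩

theorem ord_mk {c : R} (hc : c ∉ q) :
    ∃ o : ℕ, Ring.ord (R ⧸ q) (Ideal.Quotient.mk q c) = o ∧ ν (algebraMap R κ c) = o := by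
  have hne : Ideal.Quotient.mk q c ≠ 0 := fun h => hc (Ideal.Quotient.eq_zero_iff_mem.1 h)
  have hfin : Ring.ord (R ⧸ q) (Ideal.Quotient.mk q c) ≠ ⊤ := Module.length_ne_top_iff.mpr
    (isFiniteLength_quotient_span_singleton _ (mem_nonZeroDivisors_of_ne_zero hne))
  refine ⟨_, (ENat.natCast_toNat hfin).symm, ?_⟩
  rw [IsScalarTower.algebraMap_apply R (R ⧸ q) κ c]
  exact Len90.ordFrac_algebraMap (Ideal.Quotient.mk q c) hne

theorem ord_one : ν (1 : κ) = 0 := by
  rw [← map_one (algebraMap (R ⧸ q) κ), Len90.ordFrac_algebraMap 1 one_ne_zero, Ring.ord_one]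
  rfl

theorem ord_neg {f : κ} (hf : f ≠ 0) : ν (-f) = ν f := by
  have h := Len90.ordFrac_mul (A := R ⧸ q) (-1 : κ) (-1) (neg_ne_zero.2 one_ne_zero) (neg_ne_zero.2 one_ne_zero)
  rw [neg_one_mul, neg_neg, ord_one] at h
  rw [← neg_one_mul f, Len90.ordFrac_mul (A := R ⧸ q) (-1 : κ) f (neg_ne_zero.2 one_ne_zero) hf]
  omega

theorem algebraMap_ne_zero {c : R} (hc : c ∉ q) : algebraMap R κ c ≠ 0 := fun h =>
  hc (Ideal.algebraMap_residueField_eq_zero.1 h)

theorem residue_loc (c : R) : IsLocalRing.residue L (algebraMap R L c) = algebraMap R κ c := rfl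

/-- Rescaling a good tuple. -/
theorem scale {g g' : Fin l → N} (hg : Good q g) (hg' : Good q g') (c : Fin l → R) (hc : ∀ i, c i ∉ q)
    (hd : ∀ i : Fin l, g' i - c i • g i ∈ spanBefore R N g i) :
    Submodule.span R (Set.range g') ≤ Submodule.span R (Set.range g) ∧
    ∃ (m : ℕ) (f : κ), f ≠ 0 ∧ ν f = m ∧
      len (Submodule.span R (Set.range g')) (Submodule.span R (Set.range g)) = m ∧
      sy (loc hg') = f • sy (loc hg) := by
  have hle : ∀ k, spanBefore R N g' k ≤ spanBefore R N g k := fun k => Submodule.span_le.2 (by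
    rintro _ ⟨i, hi, rfl⟩
    have := add_mem (before_mono g (le_of_lt hi) (hd i)) (Submodule.smul_mem _ (c i) (mem_before g hi))
    simpa using this)
  refine ⟨by simpa only [before_top] using hle l, ?_⟩
  let T : ℕ → Fin l → Nq := fun k i => if (i : ℕ) < k then j (g' i) else j (g i)
  suffices h : ∀ k ≤ l, ∃ (m : ℕ) (f : κ) (h : IsAdmissible L Nq (T k)), f ≠ 0 ∧ ν f = m ∧
      len (spanBefore R N g' k) (spanBefore R N g k) = m ∧
      (∀ i, spanBefore L Nq (T k) i = spanBefore L Nq (fun i => j (g i)) i) ∧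
      sy ⟨T k, h⟩ = f • sy (loc hg) by
    obtain ⟨m, f, h, hf, hm, hlen, -, hsy⟩ := h l le_rfl
    refine ⟨m, f, hf, hm, by rwa [← before_top, ← before_top], ?_⟩
    rw [← hsy]
    congr 1
    exact Subtype.ext (funext fun i => (if_pos i.2).symm)
  intro k
  induction k with
  | zero =>
    intro _
    have hT : T 0 = fun i => j (g i) := funext fun i => if_neg (Nat.not_lt_zero _)
    refine ⟨0, 1, hT ▸ hg.isAdmissible, one_ne_zero, ord_one, ?_, fun i => by rw [hT], ?_⟩
    · rw [before_zero, before_zero, len_self, Nat.cast_zero]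
    · rw [one_smul]
      exact congrArg sy (Subtype.ext hT)
  | succ k ih =>
    intro hk
    obtain ⟨m, f, hT, hf, hm, hlen, hbef, hsy⟩ := ih (by omega)
    let a : Fin l := ⟨k, hk⟩
    obtain ⟨o, ho, hoν⟩ := ord_mk (hc a)
    obtain ⟨v, hv⟩ : IsUnit (algebraMap R L (c a)) := IsLocalization.map_units L (⟨c a, hc a⟩ : q.primeCompl)
    have hTa : T (k + 1) a = j (g' a) := if_pos (Nat.lt_succ_self k)
    have hTa' : T k a = j (g a) := if_neg (lt_irrefl k)
    have hne : ∀ i, i ≠ a → T k i = T (k + 1) i := fun i hi => by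
      have : (i : ℕ) ≠ k := fun h => hi (Fin.ext h)
      show (if _ then _ else _) = if _ then _ else _
      by_cases h : (i : ℕ) < k
      · rw [if_pos h, if_pos (by omega)]
      · rw [if_neg h, if_neg (by omega)]
    have hch : T k a - ((v⁻¹ : (L)ˣ) : L) • T (k + 1) a ∈ spanBefore L Nq (T k) a := by
      rw [hTa, hTa', hbef]
      have hmem := before_local_mem (q := q) (hd a)
      rw [map_sub, ← algebraMap_smul_j, ← hv] at hmem
      have := Submodule.neg_mem _ (Submodule.smul_mem _ ((v⁻¹ : (L)ˣ) : L) hmem)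
      rw [smul_sub, neg_sub, smul_smul, Units.inv_mul, one_smul] at this
      exact this
    have hT' : IsAdmissible L Nq (T (k + 1)) := isAdmissible_change hT hne hch
    have hsy' : sy ⟨T (k + 1), hT'⟩ = (algebraMap R κ (c a) * f) • sy (loc hg) := by
      have h1 := sy_change ⟨T k, hT⟩ ⟨T (k + 1), hT'⟩ a v⁻¹ hne hch
      rw [mul_smul, ← hsy, h1, ← residue_loc, ← hv, smul_smul, ← map_mul, Units.mul_inv, map_one, one_smul]
    refine ⟨m + o, algebraMap R κ (c a) * f, hT', mul_ne_zero (algebraMap_ne_zero (hc a)) hf, ?_, ?_,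
      fun i => by rw [← before_eq_of_change hne hch i, hbef i], hsy'⟩
    · rw [Len90.ordFrac_mul (A := R ⧸ q) _ _ (algebraMap_ne_zero (hc a)) hf, hm, hoν]
      push_cast
      ring
    · have hsucc : ∀ e : Fin l → N, spanBefore R N e (k + 1) = spanBefore R N e k ⊔ Submodule.span R {e a} :=
        fun e => before_succ e a
      have hS : spanBefore R N g' (k + 1) ≤ spanBefore R N g k ⊔ spanBefore R N g' (k + 1) := le_sup_right
      have hS' : spanBefore R N g k ⊔ spanBefore R N g' (k + 1) ≤ spanBefore R N g (k + 1) :=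
        sup_le (before_mono g (Nat.le_succ k)) (hle (k + 1))
      have h1 : len (spanBefore R N g' (k + 1)) (spanBefore R N g k ⊔ spanBefore R N g' (k + 1)) = m := by
        rw [len_sup (hle k) (before_mono g' (Nat.le_succ k)) ?_, hlen]
        rintro z ⟨hz, hz'⟩
        rw [SetLike.mem_coe, hsucc, Submodule.mem_sup] at hz'
        obtain ⟨p, hp, _, hv', rfl⟩ := hz'
        obtain ⟨r, rfl⟩ := Submodule.mem_span_singleton.1 hv'
        refine add_mem hp (hg'.adm a r ?_)
        have h2 : (r * c a) • g a ∈ spanBefore R N g k := by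
          have := sub_mem (sub_mem hz (hle k hp)) (Submodule.smul_mem _ r (hd a))
          rw [mul_smul]
          convert this using 1
          rw [smul_sub]; abel
        exact (hq.mem_or_mem ((hg.smul_mem_iff a _).1 h2)).resolve_right (hc a)
      have h2 : len (spanBefore R N g k ⊔ spanBefore R N g' (k + 1)) (spanBefore R N g (k + 1)) = o := by
        have htop : spanBefore R N g (k + 1) =
            (spanBefore R N g k ⊔ spanBefore R N g' (k + 1)) ⊔ Submodule.span R {g a} := by
          refine le_antisymm ?_ (sup_le hS' ((Submodule.span_singleton_le_iff_mem _ _).2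
            (mem_before g (a := a) (Nat.lt_succ_self k))))
          rw [hsucc g]
          exact sup_le_sup le_sup_left le_rfl
        rw [htop, len_cyclic q _ (g a) (c a), ho]
        intro r
        have hda : g' a - c a • g a ∈ spanBefore R N g k := hd a
        constructor
        · intro hr
          rw [hsucc g', ← sup_assoc, sup_eq_left.2 (hle k), Submodule.mem_sup] at hr
          obtain ⟨p, hp, _, hv', heq⟩ := hr
          obtain ⟨t, rfl⟩ := Submodule.mem_span_singleton.1 hv'
          have h3 : (r - t * c a) • g a ∈ spanBefore R N g k := by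
            have := add_mem hp (Submodule.smul_mem _ t hda)
            convert this using 1
            rw [sub_smul, mul_smul, ← heq, smul_sub]; abel
          rw [show r = (r - t * c a) + t * c a by ring]
          exact add_mem (Submodule.mem_sup_left ((hg.smul_mem_iff a _).1 h3))
            (Submodule.mem_sup_right (Ideal.mem_span_singleton'.2 ⟨t, rfl⟩))
        · intro hr
          obtain ⟨p, hp, _, hv', rfl⟩ := Submodule.mem_sup.1 hr
          obtain ⟨t, rfl⟩ := Ideal.mem_span_singleton'.1 hv'
          rw [add_smul, mul_smul]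
          refine add_mem (Submodule.mem_sup_left (hg.adm a p hp)) (Submodule.smul_mem _ t ?_)
          rw [show c a • g a = g' a - (g' a - c a • g a) by abel]
          exact sub_mem (Submodule.mem_sup_right (mem_before g' (a := a) (Nat.lt_succ_self k)))
            (Submodule.mem_sup_left hda)
      rw [len_add hS hS', h1, h2, Nat.cast_add]

/-- What is to be proved of a good tuple. -/
def Val {y : Fin l → N} (hy : Good q y) {g : Fin l → N} (hg : Good q g) : Prop :=
  ∃ (n : ℕ) (f : κ), f ≠ 0 ∧ ν f = n ∧ len (Submodule.span R (Set.range g)) ⊤ = n ∧ sy (loc hg) = f • sy (loc hy)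

/-- The tuple generates after localisation. -/
def Full (q : Ideal R) (g : Fin l → N) : Prop := ∀ n : N, ∃ s : R, s ∉ q ∧ s • n ∈ Submodule.span R (Set.range g)

theorem Val.of_scale {y : Fin l → N} {hy : Good q y} {g g' : Fin l → N} {hg : Good q g} {hg' : Good q g'}
    (c : Fin l → R) (hc : ∀ i, c i ∉ q) (hd : ∀ i : Fin l, g' i - c i • g i ∈ spanBefore R N g i)
    (h : Val hy hg') : Val hy hg := by
  obtain ⟨hle, m, fm, hfm, hm, hlen, hsy⟩ := scale hg hg' c hc hd
  obtain ⟨n, f, hf, hn, hlen', hsy'⟩ := h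
  rw [len_add hle le_top, hlen] at hlen'
  have hfin : len (Submodule.span R (Set.range g)) ⊤ ≠ ⊤ := fun h => by
    rw [h, add_top] at hlen'
    exact ENat.top_ne_natCast n hlen'
  obtain ⟨b, hb⟩ := ENat.ne_top_iff_exists.1 hfin
  rw [← hb, ← Nat.cast_add, Nat.cast_inj] at hlen'
  refine ⟨b, f / fm, div_ne_zero hf hfm, ?_, hb.symm, ?_⟩
  · have := Len90.ordFrac_mul (A := R ⧸ q) (f / fm) fm (div_ne_zero hf hfm) hfm
    rw [div_mul_cancel₀ _ hfm, hn, hm, ← hlen'] at this
    push_cast at this
    omega
  · rw [div_eq_inv_mul, mul_smul, ← hsy', hsy, smul_smul, inv_mul_cancel₀ hfm, one_smul]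

theorem Good.swap {g : Fin l → N} (hg : Good q g) {a b : Fin l} (hab : (b : ℕ) + 1 = a)
    (hm : ∀ r ∈ q, r • g a ∈ spanBefore R N g b) : Good q (g ∘ Equiv.swap a b) := by
  have hb : spanBefore R N (g ∘ Equiv.swap a b) b = spanBefore R N g b := before_swap hab _ (by omega)
  constructor
  · intro i r hr
    rcases eq_or_ne i b with h | h
    · subst h
      rw [Function.comp_apply, Equiv.swap_apply_right, hb]
      exact hm r hr
    rcases eq_or_ne i a with h' | h'
    · subst h'
      rw [Function.comp_apply, Equiv.swap_apply_left]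
      exact before_mono _ (show (b : ℕ) ≤ i by omega) (hb.symm ▸ hg.adm b r hr)
    rw [Function.comp_apply, Equiv.swap_apply_of_ne_of_ne h' h, before_swap hab _ (Fin.val_ne_iff.2 h')]
    exact hg.adm i r hr
  · intro i s hs
    rcases eq_or_ne i b with h | h
    · subst h
      rw [Function.comp_apply, Equiv.swap_apply_right, hb]
      exact fun h => hg.strict a s hs (before_mono g (show (i : ℕ) ≤ a by omega) h)
    rcases eq_or_ne i a with h' | h'
    · subst h'
      rw [Function.comp_apply, Equiv.swap_apply_left, ← hab, before_succ, hb, Function.comp_apply,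
        Equiv.swap_apply_right, Submodule.mem_sup]
      rintro ⟨p, hp, _, hv, heq⟩
      obtain ⟨t, rfl⟩ := Submodule.mem_span_singleton.1 hv
      have h1 : t • g i ∈ spanBefore R N g i := by
        have := sub_mem (Submodule.smul_mem _ s (mem_before (R := R) g (a := b) (i := (i : ℕ)) (by omega)))
          (before_mono g (show (b : ℕ) ≤ i by omega) hp)
        rwa [← heq, add_sub_cancel_left] at this
      exact hg.strict b s hs (heq ▸ add_mem hp (hm t ((hg.smul_mem_iff i t).1 h1)))
    rw [Function.comp_apply, Equiv.swap_apply_of_ne_of_ne h' h, before_swap hab _ (Fin.val_ne_iff.2 h')]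
    exact hg.strict i s hs

theorem Val.of_swap {y : Fin l → N} {hy : Good q y} {g : Fin l → N} {hg : Good q g} {a b : Fin l}
    (hab : (b : ℕ) + 1 = a) (hm : ∀ r ∈ q, r • g a ∈ spanBefore R N g b)
    (h : Val hy (hg.swap hab hm)) : Val hy hg := by
  obtain ⟨n, f, hf, hn, hlen, hsy⟩ := h
  refine ⟨n, -f, neg_ne_zero.2 hf, (ord_neg hf).trans hn, ?_, ?_⟩
  · rwa [(Equiv.swap a b).surjective.range_comp] at hlen
  · rw [sy_swap (loc hg) (loc (hg.swap hab hm)) a b hab (local_smul_mem hm) rfl, hsy, neg_smul]

/-- Moving an entry down to position `k`. -/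
theorem Val.of_bring {y : Fin l → N} {hy : Good q y} {k : ℕ} {x : N} {S : Submodule R N}
    (hx : ∀ r ∈ q, r • x ∈ S) :
    ∀ (d : ℕ) {g : Fin l → N} (hg : Good q g) (i : Fin l), (i : ℕ) = k + d → g i = x → spanBefore R N g k = S →
      (∀ {g' : Fin l → N} (hg' : Good q g'), Submodule.span R (Set.range g') = Submodule.span R (Set.range g) →
        (∀ i : Fin l, (i : ℕ) < k → g' i = g i) → (∀ i : Fin l, (i : ℕ) = k → g' i = x) → Val hy hg') →
      Val hy hg := by
  intro d
  induction d with
  | zero =>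
    intro g hg i hi hgi _ h
    exact h hg rfl (fun _ _ => rfl) fun a ha => by rw [show a = i from Fin.ext (by omega), hgi]
  | succ d ih =>
    intro g hg i hi hgi hS h
    let b : Fin l := ⟨k + d, by omega⟩
    have hab : (b : ℕ) + 1 = i := by show k + d + 1 = (i : ℕ); omega
    have hm : ∀ r ∈ q, r • g i ∈ spanBefore R N g b := fun r hr =>
      before_mono g (Nat.le_add_right k d) (by rw [hgi, hS]; exact hx r hr)
    refine Val.of_swap hab hm (ih (hg.swap hab hm) b rfl ?_ ?_ ?_)
    · rw [Function.comp_apply, Equiv.swap_apply_right, hgi]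
    · rw [before_swap hab k (by omega), hS]
    · intro g' hg' hspan hlow hk
      refine h hg' (hspan.trans (by rw [(Equiv.swap i b).surjective.range_comp])) (fun a ha => ?_) hk
      rw [hlow a ha, Function.comp_apply, Equiv.swap_apply_of_ne_of_ne (Fin.ne_of_val_ne (by omega))
        (Fin.ne_of_val_ne (by show (a : ℕ) ≠ k + d; omega))]

/-- The raised tuple at a first occurrence. -/
theorem Good.raise {g : Fin l → N} (hg : Good q g) {i : Fin l} {p x : N} {α : R} (hα : α ∉ q)
    (hp : p ∈ spanBefore R N g i) (hx : p + α • g i = x) :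
    ∃ (g' : Fin l → N) (c : Fin l → R), Good q g' ∧ (∀ a, c a ∉ q) ∧
      (∀ a : Fin l, g' a - c a • g a ∈ spanBefore R N g a) ∧ g' i = x ∧
      (∀ a : Fin l, (a : ℕ) < i → g' a = g a) ∧ ∀ z ∈ Submodule.span R (Set.range g), α • z ∈ Submodule.span R (Set.range g') := by
  let g' : Fin l → N := fun a => if (a : ℕ) < i then g a else if a = i then x else α • g a
  let c : Fin l → R := fun a => if (a : ℕ) < i then 1 else α
  have hlow : ∀ a : Fin l, (a : ℕ) < i → g' a = g a := fun a ha => if_pos ha
  have hgi : g' i = x := (if_neg (lt_irrefl _)).trans (if_pos rfl)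
  have hd : ∀ a : Fin l, g' a - c a • g a ∈ spanBefore R N g a := fun a => by
    by_cases h : (a : ℕ) < i
    · simp only [g', c, if_pos h, one_smul, sub_self, zero_mem]
    by_cases h' : a = i
    · subst h'
      simp only [g', c, if_neg h, if_true, ← hx, add_sub_cancel_right]
      exact hp
    · simp only [g', c, if_neg h, if_neg h', sub_self, zero_mem]
  have hc : ∀ a, c a ∉ q := fun a => by
    by_cases h : (a : ℕ) < i
    · simp only [c, if_pos h]
      exact fun h1 => hq.ne_top ((Ideal.eq_top_iff_one q).2 h1)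
    · simp only [c, if_neg h]; exact hα
  have hle : ∀ k, spanBefore R N g' k ≤ spanBefore R N g k := fun k => Submodule.span_le.2 (by
    rintro _ ⟨a, ha, rfl⟩
    have := add_mem (before_mono g (le_of_lt ha) (hd a)) (Submodule.smul_mem _ (c a) (mem_before g ha))
    simpa using this)
  have hα' : ∀ k, ∀ z ∈ spanBefore R N g k, α • z ∈ spanBefore R N g' k := by
    intro k z hz
    induction hz using Submodule.span_induction with
    | mem z hz =>
      obtain ⟨a, ha, rfl⟩ := hz
      by_cases h : (a : ℕ) < i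
      · rw [← hlow a h]
        exact Submodule.smul_mem _ _ (mem_before g' ha)
      by_cases h' : a = i
      · subst h'
        rw [show α • g a = g' a - p by rw [hgi, ← hx, add_sub_cancel_left]]
        refine sub_mem (mem_before g' ha) (before_mono g' (le_of_lt ha) ?_)
        rwa [before_congr (e' := g) fun b hb => hlow b hb]
      · rw [show α • g a = g' a by simp only [g', if_neg h, if_neg h']]
        exact mem_before g' ha
    | zero => rw [smul_zero]; exact zero_mem _
    | add u w _ _ hu hw => rw [smul_add]; exact add_mem hu hw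
    | smul r u _ hu => rw [smul_comm]; exact Submodule.smul_mem _ _ hu
  refine ⟨g', c, ⟨fun a r hr => ?_, fun a s hs hmem => ?_⟩, hc, hd, hgi, hlow, fun z hz => ?_⟩
  · by_cases h : (a : ℕ) < i
    · rw [hlow a h, before_congr (e' := g) fun b hb => hlow b (lt_trans hb h)]
      exact hg.adm a r hr
    by_cases h' : a = i
    · subst h'
      rw [hgi, before_congr (e' := g) fun b hb => hlow b hb, ← hx, smul_add, smul_smul, mul_comm, mul_smul]
      exact add_mem (Submodule.smul_mem _ _ hp) (Submodule.smul_mem _ _ (hg.adm a r hr))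
    · rw [show g' a = α • g a by simp only [g', if_neg h, if_neg h'], smul_comm]
      exact hα' a _ (hg.adm a r hr)
  · have h1 : (s * c a) • g a ∈ spanBefore R N g a := by
      have := sub_mem (hle a hmem) (Submodule.smul_mem _ s (hd a))
      rw [smul_sub, sub_sub_cancel] at this
      rwa [mul_smul]
    exact (hq.mem_or_mem ((hg.smul_mem_iff a _).1 h1)).elim hs (hc a)
  · rw [← before_top]
    exact hα' l z (by rwa [before_top])

theorem val_all {y : Fin l → N} (hy : Good q y) (hspan : Submodule.span R (Set.range y) = ⊤) :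
    ∀ (d k : ℕ), k + d = l → ∀ {g : Fin l → N} (hg : Good q g), Full q g →
      (∀ a : Fin l, (a : ℕ) < k → ∃ c ∉ q, g a = c • y a) →
      (∃ C ∉ q, ∀ z ∈ spanBefore R N y k, C • z ∈ spanBefore R N g k) → Val hy hg := by
  intro d
  induction d with
  | zero =>
    intro k hk g hg _ hagree _
    choose c hc hcy using fun a : Fin l => hagree a (by omega)
    obtain ⟨-, m, f, hf, hm, hlen, hsy⟩ := scale hy hg c hc fun a => by simp [hcy a]
    exact ⟨m, f, hf, hm, hspan ▸ hlen, hsy⟩
  | succ d ih =>
    intro k hk g hg hfull hagree hC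
    obtain ⟨C, hC, hCle⟩ := hC
    let a : Fin l := ⟨k, by omega⟩
    obtain ⟨s, hs, hsmem⟩ := hfull (y a)
    have hCs : C * s ∉ q := fun h => (hq.mem_or_mem h).elim hC hs
    have hxG : (C * s) • y a ∈ Submodule.span R (Set.range g) := by
      rw [mul_smul]; exact Submodule.smul_mem _ _ hsmem
    have hxq : ∀ r ∈ q, r • (C * s) • y a ∈ spanBefore R N g k := fun r hr => by
      rw [smul_smul, show r * (C * s) = s * (C * r) by ring, mul_smul, mul_smul]
      exact Submodule.smul_mem _ _ (hCle _ (hy.adm a r hr))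
    have hgy : spanBefore R N g k ≤ spanBefore R N y k := Submodule.span_le.2 (by
      rintro _ ⟨b, hb, rfl⟩
      obtain ⟨c, -, hc⟩ := hagree b hb
      rw [hc]
      exact Submodule.smul_mem _ _ (mem_before y hb))
    have hxk : (C * s) • y a ∉ spanBefore R N g k := fun h => hy.strict a _ hCs (hgy h)
    classical
    have hex : ∃ n, (C * s) • y a ∈ spanBefore R N g n := ⟨l, by rwa [before_top]⟩
    have hkn : k < Nat.find hex := by
      by_contra hle
      push Not at hle
      exact hxk (before_mono g hle (Nat.find_spec hex))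
    have hnl : Nat.find hex ≤ l := Nat.find_min' hex (by rwa [before_top])
    let i : Fin l := ⟨Nat.find hex - 1, by omega⟩
    have hi : (C * s) • y a ∉ spanBefore R N g i := Nat.find_min hex (by show Nat.find hex - 1 < _; omega)
    have hi' : (C * s) • y a ∈ spanBefore R N g (i + 1) := by
      rw [show (i : ℕ) + 1 = Nat.find hex by show Nat.find hex - 1 + 1 = _; omega]
      exact Nat.find_spec hex
    rw [before_succ, Submodule.mem_sup] at hi'
    obtain ⟨p, hp, _, hv, heq⟩ := hi'
    obtain ⟨α, rfl⟩ := Submodule.mem_span_singleton.1 hv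
    have hα : α ∉ q := fun h => hi (heq ▸ add_mem hp (hg.adm i α h))
    obtain ⟨g', c, hg', hc, hd, hgi, hlow, hα'⟩ := hg.raise hα hp heq
    refine Val.of_scale (hg' := hg') c hc hd ?_
    have hik : k ≤ (i : ℕ) := by show k ≤ Nat.find hex - 1; omega
    have hbk : spanBefore R N g' k = spanBefore R N g k := before_congr fun b hb => hlow b (by omega)
    refine Val.of_bring (k := k) hxq ((i : ℕ) - k) hg' i (by omega) hgi hbk ?_
    intro g'' hg'' hspan'' hlow'' hk''
    have hbk'' : spanBefore R N g'' k = spanBefore R N g k :=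
      (before_congr fun b hb => hlow'' b hb).trans hbk
    refine ih (k + 1) (by omega) hg'' (fun n => ?_) (fun b hb => ?_) ⟨C * (C * s), fun h => (hq.mem_or_mem h).elim hC hCs, ?_⟩
    · obtain ⟨t, ht, htn⟩ := hfull n
      refine ⟨α * t, fun h => (hq.mem_or_mem h).elim hα ht, ?_⟩
      rw [hspan'', mul_smul]
      exact hα' _ htn
    · rcases Nat.lt_succ_iff_lt_or_eq.1 hb with hb | hb
      · rw [hlow'' b hb, hlow b (by omega)]; exact hagree b hb
      · exact ⟨_, hCs, by rw [hk'' b hb, show b = a from Fin.ext hb]⟩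
    · intro z hz
      rw [show k + 1 = (a : ℕ) + 1 from rfl, before_succ, Submodule.mem_sup] at hz
      obtain ⟨w, hw, _, hv', rfl⟩ := hz
      obtain ⟨t, rfl⟩ := Submodule.mem_span_singleton.1 hv'
      rw [smul_add]
      refine add_mem ?_ ?_
      · rw [mul_comm, mul_smul]
        refine before_mono g'' (Nat.le_succ k) (Submodule.smul_mem _ _ ?_)
        rw [hbk'']
        exact hCle w hw
      · rw [smul_smul, show C * (C * s) * t = C * t * (C * s) by ring, mul_smul, ← hk'' a rfl]
        exact Submodule.smul_mem _ _ (mem_before g'' (a := a) (Nat.lt_succ_self k))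

theorem val_of_full {y g : Fin l → N} (hy : Good q y) (hspan : Submodule.span R (Set.range y) = ⊤)
    (hg : Good q g) (hfull : Full q g) : Val hy hg :=
  val_all hy hspan l 0 (Nat.zero_add l) hg hfull (fun a ha => absurd ha (Nat.not_lt_zero _))
    ⟨1, fun h => hq.ne_top ((Ideal.eq_top_iff_one q).2 h), fun z hz => by
      rw [before_zero] at hz ⊢
      rw [(Submodule.mem_bot R).1 hz, smul_zero]
      exact zero_mem _⟩

end Groth.Agent.CycDet50
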