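import Groth.Agent.CycDet50.Basic
import Mathlib.Logic.Equiv.Fin.Basic

/-! A functional on admissible tuples which respects the relations and does not vanish on generating tuples. -/

set_option autoImplicit false
set_option linter.unusedSectionVars false
set_option linter.style.haveILetI false

universe u v

namespace Groth.Agent.CycDet50

open IsLocalRing CycDet

variable {R : Type u} [CommRing R] [IsLocalRing R]

/-- A functional respecting the relations. -/
structure IsDetFun {M : Type v} [AddCommGroup M] [Module R M] {l : ℕ} (ψ : (Fin l → M) → ResidueField R) :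
    Prop where
  nongen : ∀ e, IsAdmissible R M e → ¬ Gen (R := R) e → ψ e = 0
  gen : ∀ e, IsAdmissible R M e → Gen (R := R) e → ψ e ≠ 0
  change : ∀ (e e' : Fin l → M) (a : Fin l) (c : Rˣ), IsAdmissible R M e → (∀ j, j ≠ a → e j = e' j) →
    e a - (c : R) • e' a ∈ spanBefore R M e a → ψ e = residue R (c : R) * ψ e'
  swap : ∀ (e : Fin l → M) (a b : Fin l), IsAdmissible R M e → (b : ℕ) + 1 = a →
    (∀ r ∈ maximalIdeal R, r • e a ∈ spanBefore R M e b) → ψ (e ∘ Equiv.swap a b) = -ψ e

section Step

variable {M : Type v} [AddCommGroup M] [Module R M] {l : ℕ} (x : M)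

/-- `x` first occurs at `i` with coefficient `α`. -/
def At (e : Fin (l + 1) → M) (i : Fin (l + 1)) (α : R) : Prop :=
  x ∉ spanBefore R M e i ∧ x - α • e i ∈ spanBefore R M e i

/-- The tuple without its `i`-th entry, modulo `x`. -/
def omit' (e : Fin (l + 1) → M) (i : Fin (l + 1)) : Fin l → M ⧸ Submodule.span R {x} :=
  fun j => Submodule.Quotient.mk (e (i.succAbove j))

variable {x} {e : Fin (l + 1) → M} {i : Fin (l + 1)} {α : R}

theorem At.unit (he : IsAdmissible R M e) (h : At x e i α) : IsUnit α := by
  refine notMem_maximalIdeal.1 fun hα => h.1 ?_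
  simpa using add_mem h.2 (he i α hα)

theorem At.exists_of_gen (hx : x ≠ 0) (hg : Gen (R := R) e) :
    ∃ (i : Fin (l + 1)) (α : R), At x e i α := by
  classical
  have hl : x ∈ spanBefore R M e (l + 1) := by rw [before_top, hg]; trivial
  let k := Nat.find (⟨l + 1, hl⟩ : ∃ k, x ∈ spanBefore R M e k)
  have hk : x ∈ spanBefore R M e k := Nat.find_spec (⟨l + 1, hl⟩ : ∃ k, x ∈ spanBefore R M e k)
  obtain ⟨k', hk'⟩ : ∃ k', k = k' + 1 := by
    refine Nat.exists_eq_succ_of_ne_zero fun h0 => hx ?_
    rw [h0, before_zero] at hk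
    exact (Submodule.mem_bot R).1 hk
  have hle : k ≤ l + 1 := Nat.find_min' _ hl
  let i : Fin (l + 1) := ⟨k', by omega⟩
  rw [hk', show k' = (i : ℕ) from rfl, before_succ, Submodule.mem_sup] at hk
  obtain ⟨p, hp, _, hq, heq⟩ := hk
  obtain ⟨α, rfl⟩ := Submodule.mem_span_singleton.1 hq
  refine ⟨i, α, fun h => ?_, by rw [← heq]; simpa using hp⟩
  have := Nat.find_min' (⟨l + 1, hl⟩ : ∃ k, x ∈ spanBefore R M e k) h
  change k ≤ k' at this
  omega

theorem At.unique (he : IsAdmissible R M e) (hs : ∀ a : Fin (l + 1), e a ∉ spanBefore R M e a) {i' : Fin (l + 1)} {β : R}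
    (h : At x e i α) (h' : At x e i' β) : i = i' ∧ residue R α = residue R β := by
  have hmem : ∀ {i : Fin (l + 1)} {α : R}, At x e i α → x ∈ spanBefore R M e (i + 1) := fun {i α} h => by
    have := add_mem (before_mono e (Nat.le_succ _) h.2) (Submodule.smul_mem _ α (mem_before e (Nat.lt_succ_self _)))
    simpa using this
  obtain rfl : i = i' := by
    refine le_antisymm ?_ ?_ <;> by_contra hlt <;> push Not at hlt
    · exact h.1 (before_mono e hlt (hmem h'))
    · exact h'.1 (before_mono e hlt (hmem h))
  refine ⟨rfl, ?_⟩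
  rw [← sub_eq_zero, ← map_sub, residue_eq_zero_iff]
  by_contra hu
  obtain ⟨v, hv⟩ := notMem_maximalIdeal.1 hu
  refine hs i ?_
  have := Submodule.smul_mem _ (↑v⁻¹ : R) (sub_mem h'.2 h.2)
  rw [sub_sub_sub_cancel_left, ← sub_smul, ← hv, smul_smul, Units.inv_mul, one_smul] at this
  exact this

theorem mk_mem_image (he : IsAdmissible R M e) (h : At x e i α) :
    Submodule.Quotient.mk (e i) ∈ (spanBefore R M e i).map (Submodule.span R {x}).mkQ := by
  obtain ⟨v, rfl⟩ := h.unit he
  refine ⟨-((↑v⁻¹ : R) • (x - (v : R) • e i)), Submodule.neg_mem _ (Submodule.smul_mem _ _ h.2), ?_⟩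
  rw [Submodule.mkQ_apply, Submodule.Quotient.eq, smul_sub, smul_smul, Units.inv_mul, one_smul, neg_sub,
    sub_sub_cancel_left]
  exact Submodule.neg_mem _ (Submodule.smul_mem _ _ (Submodule.mem_span_singleton_self x))

theorem before_omit (he : IsAdmissible R M e) (h : At x e i α) (j : Fin l) :
    spanBefore R (M ⧸ Submodule.span R {x}) (omit' (R := R) x e i) j =
      (spanBefore R M e (i.succAbove j)).map (Submodule.span R {x}).mkQ := by
  conv_rhs => rw [spanBefore, Submodule.map_span]
  refine le_antisymm (Submodule.span_le.2 ?_) (Submodule.span_le.2 ?_)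
  · rintro _ ⟨k, hk, rfl⟩
    exact Submodule.subset_span ⟨_, ⟨i.succAbove k, Fin.strictMono_succAbove i hk, rfl⟩, rfl⟩
  · rintro _ ⟨_, ⟨k, hk, rfl⟩, rfl⟩
    have key : ∀ k : Fin (l + 1), k ≠ i → (k : ℕ) < i.succAbove j →
        Submodule.Quotient.mk (e k) ∈ spanBefore R (M ⧸ Submodule.span R {x}) (omit' (R := R) x e i) j := by
      intro k hki hk
      obtain ⟨k', rfl⟩ := Fin.exists_succAbove_eq hki
      exact Submodule.subset_span ⟨k', (Fin.strictMono_succAbove i).lt_iff_lt.1 hk, rfl⟩
    by_cases hki : k = i
    · subst hki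
      obtain ⟨y, hy, hy'⟩ := mk_mem_image he h
      show Submodule.Quotient.mk (e k) ∈ _
      rw [← hy']
      refine (Submodule.map_span_le _ _ _).2 ?_ ⟨y, hy, rfl⟩
      rintro _ ⟨k'', hk'', rfl⟩
      exact key k'' (fun hh => by subst hh; exact lt_irrefl (k'' : ℕ) hk'') (lt_trans hk'' hk)
    · exact key k hki hk

theorem omit_admissible (he : IsAdmissible R M e) (h : At x e i α) :
    IsAdmissible R (M ⧸ Submodule.span R {x}) (omit' (R := R) x e i) := by
  intro j r hr
  rw [before_omit he h]
  exact ⟨_, he _ r hr, map_smul _ _ _⟩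

theorem omit_gen (he : IsAdmissible R M e) (h : At x e i α) (hg : Gen (R := R) e) :
    Gen (R := R) (omit' (R := R) x e i) := by
  have hsurj : ⊤ = (Submodule.span R (Set.range e)).map (Submodule.span R {x}).mkQ := by
    rw [hg, Submodule.map_top, Submodule.range_mkQ]
  refine eq_top_iff.2 (hsurj.le.trans ((Submodule.map_span_le _ _ _).2 ?_))
  rintro _ ⟨k, rfl⟩
  have key : ∀ k : Fin (l + 1), k ≠ i →
      Submodule.Quotient.mk (e k) ∈ Submodule.span R (Set.range (omit' (R := R) x e i)) := fun k hk => by
    obtain ⟨k', rfl⟩ := Fin.exists_succAbove_eq hk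
    exact Submodule.subset_span ⟨k', rfl⟩
  by_cases hki : k = i
  · subst hki
    obtain ⟨y, hy, hy'⟩ := mk_mem_image he h
    show Submodule.Quotient.mk (e k) ∈ _
    rw [← hy']
    refine (Submodule.map_span_le _ _ _).2 ?_ ⟨y, hy, rfl⟩
    rintro _ ⟨k'', hk'', rfl⟩
    exact key k'' fun hh => by subst hh; exact lt_irrefl (k'' : ℕ) hk''
  · exact key k hki

variable (x) in
open Classical in
/-- The functional built from one on the quotient by `x`. -/
noncomputable def extFun (ψ' : (Fin l → M ⧸ Submodule.span R {x}) → ResidueField R) (e : Fin (l + 1) → M) :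
    ResidueField R :=
  if h : Gen (R := R) e ∧ ∃ p : Fin (l + 1) × R, At x e p.1 p.2 then
    (-1) ^ (h.2.choose.1 : ℕ) * (residue R h.2.choose.2)⁻¹ * ψ' (omit' (R := R) x e h.2.choose.1)
  else 0

theorem extFun_eq (ψ' : (Fin l → M ⧸ Submodule.span R {x}) → ResidueField R) (he : IsAdmissible R M e)
    (hs : ∀ a : Fin (l + 1), e a ∉ spanBefore R M e a) (hg : Gen (R := R) e) (h : At x e i α) :
    extFun x ψ' e = (-1) ^ (i : ℕ) * (residue R α)⁻¹ * ψ' (omit' (R := R) x e i) := by
  have hex : Gen (R := R) e ∧ ∃ p : Fin (l + 1) × R, At x e p.1 p.2 := ⟨hg, (i, α), h⟩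
  rw [extFun, dif_pos hex]
  obtain ⟨h1, h2⟩ := hex.2.choose_spec.unique he hs h
  rw [h2, h1]

theorem gen_swap (e : Fin (l + 1) → M) (a b : Fin (l + 1)) :
    Gen (R := R) (e ∘ Equiv.swap a b) ↔ Gen (R := R) e := by
  rw [Gen, Gen, (Equiv.swap a b).surjective.range_comp]

variable [IsNoetherian R M] [IsArtinian R M]

theorem extFun_swap_low {ψ' : (Fin l → M ⧸ Submodule.span R {x}) → ResidueField R}
    (hlen : Module.length R M = (l + 1 : ℕ)) (he : IsAdmissible R M e) (hg : Gen (R := R) e)
    {a b : Fin (l + 1)} (hab : (b : ℕ) + 1 = a) (hm : ∀ r ∈ maximalIdeal R, r • e a ∈ spanBefore R M e b)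
    (h : At x e b α) : extFun x ψ' (e ∘ Equiv.swap a b) = -extFun x ψ' e := by
  have hs := not_mem_before hlen he hg
  have he' := isAdmissible_swap he hab hm
  have hg' := (gen_swap e a b).2 hg
  have hba : b ≠ a := fun hh => by subst hh; omega
  have h' : At x (e ∘ Equiv.swap a b) a α := by
    refine ⟨fun hx' => ?_, ?_⟩
    · rw [show (a : ℕ) = b + 1 by omega, before_succ, before_swap hab _ (Fin.val_ne_iff.2 hba),
        Function.comp_apply, Equiv.swap_apply_right, Submodule.mem_sup] at hx'
      obtain ⟨s, hs', _, hq, heq⟩ := hx'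
      obtain ⟨γ, rfl⟩ := Submodule.mem_span_singleton.1 hq
      by_cases hγ : γ ∈ maximalIdeal R
      · exact h.1 (heq ▸ add_mem hs' (hm γ hγ))
      · obtain ⟨v, rfl⟩ := notMem_maximalIdeal.1 hγ
        have h1 : (v : R) • e a = (x - α • e b) + α • e b - s := by rw [sub_add_cancel, ← heq, add_sub_cancel_left]
        have h2 : (v : R) • e a ∈ spanBefore R M e a := by
          rw [h1]
          exact sub_mem (add_mem (before_mono e (by omega) h.2)
            (Submodule.smul_mem _ _ (mem_before e (by omega)))) (before_mono e (by omega) hs')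
        refine hs a ?_
        simpa [smul_smul] using Submodule.smul_mem _ (↑v⁻¹ : R) h2
    · rw [Function.comp_apply, Equiv.swap_apply_left]
      refine before_mono _ (show (b : ℕ) ≤ a by omega) ?_
      rw [before_swap hab _ (Fin.val_ne_iff.2 hba)]
      exact h.2
  rw [extFun_eq ψ' he' (not_mem_before hlen he' hg') hg' h', extFun_eq ψ' he hs hg h,
    show (a : ℕ) = b + 1 by omega, pow_succ]
  have homit : omit' (R := R) x (e ∘ Equiv.swap a b) a = omit' (R := R) x e b := by
    funext j
    show Submodule.Quotient.mk (e (Equiv.swap a b (a.succAbove j))) = Submodule.Quotient.mk (e (b.succAbove j))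
    congr 2
    rcases lt_trichotomy (j : ℕ) b with hj | hj | hj
    · rw [Fin.succAbove_of_castSucc_lt a j (by show (j : ℕ) < a; omega),
        Fin.succAbove_of_castSucc_lt b j (by show (j : ℕ) < b; omega),
        Equiv.swap_apply_of_ne_of_ne (Fin.ne_of_val_ne (by show (j : ℕ) ≠ a; omega))
          (Fin.ne_of_val_ne (by show (j : ℕ) ≠ b; omega))]
    · rw [Fin.succAbove_of_castSucc_lt a j (by show (j : ℕ) < a; omega),
        Fin.succAbove_of_le_castSucc b j (by show (b : ℕ) ≤ j; omega),
        show j.castSucc = b from Fin.ext hj, Equiv.swap_apply_right]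
      exact Fin.ext (by show (a : ℕ) = (j : ℕ) + 1; omega)
    · rw [Fin.succAbove_of_le_castSucc a j (by show (a : ℕ) ≤ j; omega),
        Fin.succAbove_of_le_castSucc b j (by show (b : ℕ) ≤ j; omega),
        Equiv.swap_apply_of_ne_of_ne (Fin.ne_of_val_ne (by show (j : ℕ) + 1 ≠ a; omega))
          (Fin.ne_of_val_ne (by show (j : ℕ) + 1 ≠ b; omega))]
  rw [homit]
  ring

theorem isDetFun_ext {ψ' : (Fin l → M ⧸ Submodule.span R {x}) → ResidueField R} (hx : x ≠ 0)
    (hlen : Module.length R M = (l + 1 : ℕ)) (hψ : IsDetFun ψ') : IsDetFun (extFun x ψ') where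
  nongen e _ hg := by rw [extFun, dif_neg fun h => hg h.1]
  gen e he hg := by
    obtain ⟨i, α, h⟩ := At.exists_of_gen hx hg
    rw [extFun_eq ψ' he (not_mem_before hlen he hg) hg h]
    exact mul_ne_zero (mul_ne_zero (pow_ne_zero _ (neg_ne_zero.2 one_ne_zero))
      (inv_ne_zero ((h.unit he).map (residue R)).ne_zero)) (hψ.gen _ (omit_admissible he h) (omit_gen he h hg))
  change e e' a c he hne ha := by
    have he' := isAdmissible_change he hne ha
    have hb := before_eq_of_change hne ha
    have hgg : Gen (R := R) e' ↔ Gen (R := R) e := by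
      rw [Gen, Gen, ← before_top, ← before_top, hb]
    by_cases hg : Gen (R := R) e
    swap
    · rw [extFun, dif_neg fun h => hg h.1, extFun, dif_neg fun h => hg (hgg.1 h.1), mul_zero]
    have hs := not_mem_before hlen he hg
    have hs' := not_mem_before hlen he' (hgg.2 hg)
    obtain ⟨i, α, h⟩ := At.exists_of_gen hx hg
    by_cases hia : i = a
    · subst hia
      have h' : At x e' i (α * c) := by
        refine ⟨(hb i) ▸ h.1, (hb i) ▸ ?_⟩
        have := add_mem h.2 (Submodule.smul_mem _ α ha)
        rw [smul_sub, smul_smul, ← add_sub_assoc, sub_add_cancel] at this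
        exact this
      have homit : omit' (R := R) x e i = omit' (R := R) x e' i := by
        funext j
        exact congrArg Submodule.Quotient.mk (hne _ (Fin.succAbove_ne i j))
      rw [extFun_eq ψ' he hs hg h, extFun_eq ψ' he' hs' (hgg.2 hg) h', homit, map_mul, mul_inv]
      field_simp [(residue_ne_zero_iff_isUnit _).2 c.isUnit]
    · obtain ⟨a', rfl⟩ := Fin.exists_succAbove_eq (Ne.symm hia)
      have h' : At x e' i α := ⟨(hb i) ▸ h.1, (hb i) ▸ (hne i hia ▸ h.2)⟩
      rw [extFun_eq ψ' he hs hg h, extFun_eq ψ' he' hs' (hgg.2 hg) h',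
        hψ.change (omit' (R := R) x e i) (omit' (R := R) x e' i) a' c (omit_admissible he h)
          (fun j hj => congrArg Submodule.Quotient.mk (hne _ fun hh => hj (Fin.succAbove_right_injective hh))) ?_]
      · ring
      · rw [before_omit he h]
        exact ⟨_, ha, by rw [map_sub, map_smul]; rfl⟩
  swap e a b he hab hm := by
    by_cases hg : Gen (R := R) e
    swap
    · rw [extFun, dif_neg fun h => hg ((gen_swap e a b).1 h.1), extFun, dif_neg fun h => hg h.1, neg_zero]
    have hs := not_mem_before hlen he hg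
    have he' := isAdmissible_swap he hab hm
    have hg' := (gen_swap e a b).2 hg
    have hs' := not_mem_before hlen he' hg'
    have hba : b ≠ a := fun hh => by subst hh; omega
    obtain ⟨i, α, h⟩ := At.exists_of_gen hx hg
    by_cases hib : i = b
    · subst hib
      exact extFun_swap_low hlen he hg hab hm h
    by_cases hia : i = a
    · subst hia
      have h2 := h.2
      rw [show (i : ℕ) = b + 1 by omega, before_succ, Submodule.mem_sup] at h2
      obtain ⟨s, hs0, _, hq, heq⟩ := h2
      obtain ⟨γ, rfl⟩ := Submodule.mem_span_singleton.1 hq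
      by_cases hγ : γ ∈ maximalIdeal R
      · have hb' : At x (e ∘ Equiv.swap i b) b α := by
          rw [At, before_swap hab _ (Fin.val_ne_iff.2 hba), Function.comp_apply, Equiv.swap_apply_right]
          exact ⟨fun hh => h.1 (before_mono e (by omega) hh), heq ▸ add_mem hs0 (he b γ hγ)⟩
        have hm' : ∀ r ∈ maximalIdeal R, r • (e ∘ Equiv.swap i b) i ∈ spanBefore R M (e ∘ Equiv.swap i b) b := by
          intro r hr
          rw [before_swap hab _ (Fin.val_ne_iff.2 hba), Function.comp_apply, Equiv.swap_apply_left]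
          exact he b r hr
        have := extFun_swap_low (ψ' := ψ') hlen he' hg' hab hm' hb'
        rw [show (e ∘ Equiv.swap i b) ∘ Equiv.swap i b = e by funext j; simp] at this
        rw [this, neg_neg]
      obtain ⟨v, rfl⟩ := notMem_maximalIdeal.1 hγ
      obtain ⟨w, rfl⟩ := h.unit he
      have h' : At x (e ∘ Equiv.swap i b) i (v : R) := by
        refine ⟨fun hx' => ?_, ?_⟩
        · rw [show (i : ℕ) = b + 1 by omega, before_succ, before_swap hab _ (Fin.val_ne_iff.2 hba),
            Function.comp_apply, Equiv.swap_apply_right, Submodule.mem_sup] at hx'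
          obtain ⟨s1, hs1, _, hq, heq'⟩ := hx'
          obtain ⟨δ, rfl⟩ := Submodule.mem_span_singleton.1 hq
          have h3 : (v : R) • e b + ((w : R) - δ) • e i = s1 - s := by
            rw [sub_smul, eq_sub_iff_add_eq.2 ((add_comm _ _).trans heq),
              eq_sub_iff_add_eq.2 ((add_comm _ _).trans heq')]
            abel
          by_cases hd : (w : R) - δ ∈ maximalIdeal R
          · have h4 : (v : R) • e b ∈ spanBefore R M e b := by
              rw [eq_sub_iff_add_eq.2 h3]
              exact sub_mem (sub_mem hs1 hs0) (hm _ hd)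
            refine hs b ?_
            simpa [smul_smul] using Submodule.smul_mem _ (↑v⁻¹ : R) h4
          · obtain ⟨d, hd⟩ := notMem_maximalIdeal.1 hd
            have h4 : (d : R) • e i ∈ spanBefore R M e i := by
              rw [hd, eq_sub_iff_add_eq.2 ((add_comm _ _).trans h3)]
              exact sub_mem (before_mono e (by omega) (sub_mem hs1 hs0))
                (Submodule.smul_mem _ _ (mem_before e (by omega)))
            refine hs i ?_
            simpa [smul_smul] using Submodule.smul_mem _ (↑d⁻¹ : R) h4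
        · rw [Function.comp_apply, Equiv.swap_apply_left, show (i : ℕ) = b + 1 by omega, before_succ,
            before_swap hab _ (Fin.val_ne_iff.2 hba), Function.comp_apply, Equiv.swap_apply_right,
            Submodule.mem_sup]
          refine ⟨s, hs0, (w : R) • e i, Submodule.smul_mem _ _ (Submodule.mem_span_singleton_self _), ?_⟩
          rw [eq_sub_iff_add_eq.2 ((add_comm _ _).trans heq)] at *
          abel
      rw [extFun_eq ψ' he hs hg h, extFun_eq ψ' he' hs' hg' h']
      let b' : Fin l := ⟨b, by omega⟩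
      have hsb : i.succAbove b' = b := by
        rw [Fin.succAbove_of_castSucc_lt i b' (by show (b : ℕ) < i; omega)]; rfl
      have hc := hψ.change (omit' (R := R) x (e ∘ Equiv.swap i b) i) (omit' (R := R) x e i) b' (-(w⁻¹ * v))
        (omit_admissible he' h') (fun j hj => ?_) ?_
      · have hw := ((w.isUnit).map (residue R)).ne_zero
        have hv := ((v.isUnit).map (residue R)).ne_zero
        have hwinv : residue R (↑w⁻¹ : R) = (residue R (w : R))⁻¹ := map_units_inv (residue R) w
        rw [hc, Units.val_neg, Units.val_mul, map_neg, map_mul, hwinv]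
        field_simp
      · refine congrArg Submodule.Quotient.mk ?_
        show e (Equiv.swap i b (i.succAbove j)) = e (i.succAbove j)
        rw [Equiv.swap_apply_of_ne_of_ne (Fin.succAbove_ne i j) (fun hh => hj (Fin.succAbove_right_injective (hh.trans hsb.symm)))]
      · rw [before_omit he' h', hsb, before_swap hab _ (Fin.val_ne_iff.2 hba)]
        refine ⟨-((↑w⁻¹ : R) • s), Submodule.neg_mem _ (Submodule.smul_mem _ _ hs0), ?_⟩
        simp only [omit', hsb, Function.comp_apply, Equiv.swap_apply_right, ← Submodule.Quotient.mk_smul,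
          Submodule.mkQ_apply, ← Submodule.Quotient.mk_sub]
        rw [Submodule.Quotient.eq, Submodule.mem_span_singleton]
        refine ⟨-(↑w⁻¹ : R), ?_⟩
        rw [eq_add_of_sub_eq heq.symm]
        simp only [Units.val_neg, Units.val_mul, neg_smul, smul_add, smul_smul, neg_mul, Units.inv_mul, one_smul]
        abel
    · obtain ⟨a', ha'⟩ := Fin.exists_succAbove_eq (Ne.symm hia)
      obtain ⟨b', hb'⟩ := Fin.exists_succAbove_eq (Ne.symm hib)
      have hab' : (b' : ℕ) + 1 = a' := by
        have h1 := congrArg Fin.val ha'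
        have h2 := congrArg Fin.val hb'
        simp only [Fin.succAbove, apply_ite Fin.val, Fin.lt_def, Fin.val_castSucc, Fin.val_succ] at h1 h2
        have h3 : (i : ℕ) ≠ a := Fin.val_ne_iff.2 hia
        have h4 : (i : ℕ) ≠ b := Fin.val_ne_iff.2 hib
        split_ifs at h1 h2 <;> omega
      have h' : At x (e ∘ Equiv.swap a b) i α := by
        rw [At, before_swap hab _ (Fin.val_ne_iff.2 hia), Function.comp_apply, Equiv.swap_apply_of_ne_of_ne hia hib]
        exact h
      have homit : omit' (R := R) x (e ∘ Equiv.swap a b) i = omit' (R := R) x e i ∘ Equiv.swap a' b' := by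
        funext j
        show Submodule.Quotient.mk (e (Equiv.swap a b (i.succAbove j))) =
          Submodule.Quotient.mk (e (i.succAbove (Equiv.swap a' b' j)))
        rw [← ha', ← hb', (Fin.succAbove_right_injective).swap_apply]
      rw [extFun_eq ψ' he hs hg h, extFun_eq ψ' he' hs' hg' h', homit,
        hψ.swap _ a' b' (omit_admissible he h) hab' fun r hr => ?_]
      · ring
      · rw [before_omit he h, hb']
        exact ⟨_, hm r hr, by rw [map_smul, Submodule.mkQ_apply, omit', ha']⟩

end Step

/-- The length of a quotient by a socle element. -/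
theorem length_quot_socle {M : Type v} [AddCommGroup M] [Module R M] [IsNoetherian R M] [IsArtinian R M]
    {x : M} (hx : x ≠ 0) (hm : ∀ r ∈ maximalIdeal R, r • x = 0) {l : ℕ} (hl : Module.length R M = (l + 1 : ℕ)) :
    Module.length R (M ⧸ Submodule.span R {x}) = l := by
  have h1 : Module.length R (Submodule.span R {x} : Submodule R M) = 1 := by
    have hker : LinearMap.ker (LinearMap.toSpanSingleton R M x) = maximalIdeal R := by
      refine le_antisymm ?_ fun r hr => hm r hr
      refine le_maximalIdeal fun h => hx ?_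
      have : (1 : R) ∈ LinearMap.ker (LinearMap.toSpanSingleton R M x) := h ▸ Submodule.mem_top
      simpa using this
    haveI : IsSimpleModule R (R ⧸ maximalIdeal R) := isSimpleModule_iff_isCoatom.2 (maximalIdeal.isMaximal R).1
    rw [← Module.length_eq_one R (R ⧸ maximalIdeal R)]
    exact (((Submodule.quotEquivOfEq _ _ hker.symm).trans (LinearMap.toSpanSingleton R M x).quotKerEquivRange).trans
      (LinearEquiv.ofEq _ _ (by rw [LinearMap.range_toSpanSingleton]))).length_eq.symm
  have := Module.length_eq_add_of_exact (Submodule.span R {x}).subtype (Submodule.span R {x}).mkQ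
    Subtype.val_injective (Submodule.mkQ_surjective _) (LinearMap.exact_subtype_mkQ _)
  rw [hl, h1] at this
  push_cast at this
  exact (WithTop.add_left_cancel ENat.one_ne_top ((add_comm _ _).trans this)).symm

/-- Functionals exist. -/
theorem exists_detFun : ∀ (l : ℕ) (M : Type v) [AddCommGroup M] [Module R M] [IsNoetherian R M] [IsArtinian R M],
    Module.length R M = l → ∃ ψ : (Fin l → M) → ResidueField R, IsDetFun ψ := by
  intro l
  induction l with
  | zero =>
    intro M _ _ _ _ hl
    haveI : Subsingleton M := Module.length_eq_zero_iff.1 (by rw [hl]; rfl)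
    exact ⟨fun _ => 1, ⟨fun e _ hg => absurd (Subsingleton.elim _ _) hg, fun e _ _ => one_ne_zero,
      fun e e' a => a.elim0, fun e a => a.elim0⟩⟩
  | succ l ih =>
    intro M _ _ _ _ hl
    haveI : Nontrivial M := Module.length_pos_iff.1 (by rw [hl]; simp)
    obtain ⟨x, hx, hm⟩ := exists_socle (R := R) (M := M)
    obtain ⟨ψ', hψ'⟩ := ih (M ⧸ Submodule.span R {x}) (length_quot_socle hx hm hl)
    exact ⟨extFun x ψ', isDetFun_ext hx hl hψ'⟩

/-- Generating admissible tuples exist. -/
theorem exists_gen : ∀ (l : ℕ) (M : Type v) [AddCommGroup M] [Module R M] [IsNoetherian R M] [IsArtinian R M],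
    Module.length R M = l → ∃ e : Fin l → M, IsAdmissible R M e ∧ Gen (R := R) e := by
  intro l
  induction l with
  | zero =>
    intro M _ _ _ _ hl
    haveI : Subsingleton M := Module.length_eq_zero_iff.1 (by rw [hl]; rfl)
    exact ⟨Fin.elim0, fun i => i.elim0, Subsingleton.elim _ _⟩
  | succ l ih =>
    intro M _ _ _ _ hl
    haveI : Nontrivial M := Module.length_pos_iff.1 (by rw [hl]; simp)
    obtain ⟨x, hx, hm⟩ := exists_socle (R := R) (M := M)
    obtain ⟨f, hf, hfg⟩ := ih (M ⧸ Submodule.span R {x}) (length_quot_socle hx hm hl)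
    choose g hg using fun j => Submodule.mkQ_surjective (Submodule.span R {x}) (f j)
    let e : Fin (l + 1) → M := Fin.cons x g
    have hlift : ∀ (j : ℕ) (y : M),
        Submodule.Quotient.mk y ∈ spanBefore R (M ⧸ Submodule.span R {x}) f j → y ∈ spanBefore R M e (j + 1) := by
      intro j y hy
      have hle : spanBefore R (M ⧸ Submodule.span R {x}) f j ≤
          (spanBefore R M e (j + 1)).map (Submodule.span R {x}).mkQ := Submodule.span_le.2 (by
        rintro _ ⟨k, hk, rfl⟩
        exact ⟨g k, Submodule.subset_span ⟨k.succ, by simpa using hk, Fin.cons_succ (α := fun _ => M) x g k⟩, hg k⟩)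
      obtain ⟨z, hz, hzy⟩ := hle hy
      obtain ⟨c, hc⟩ := Submodule.mem_span_singleton.1 ((Submodule.Quotient.eq _).1 hzy)
      rw [show y = z - c • x by rw [hc]; abel]
      exact sub_mem hz (Submodule.smul_mem _ _ (Submodule.subset_span ⟨0, by simp, Fin.cons_zero (α := fun _ => M) x g⟩))
    refine ⟨e, fun i => ?_, ?_⟩
    · cases i using Fin.cases with
      | zero => intro r hr; rw [show e 0 = x from Fin.cons_zero (α := fun _ => M) x g, hm r hr]; exact zero_mem _
      | succ j =>
        intro r hr
        rw [show e j.succ = g j from Fin.cons_succ (α := fun _ => M) x g j, Fin.val_succ]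
        refine hlift _ _ ?_
        rw [Submodule.Quotient.mk_smul, show (Submodule.Quotient.mk (g j) : M ⧸ Submodule.span R {x}) = f j from hg j]
        exact hf j r hr
    · rw [Gen, ← before_top, eq_top_iff]
      intro y _
      refine hlift l y ?_
      rw [before_top, hfg]
      trivial

end Groth.Agent.CycDet50
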